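import Cfsg.Agent.Fi24Mult.Spider
import Cfsg.Agent.SylMult.Basic

/-!
The kernel of a stem extension of Fi24' is generated by an element of order dividing 3.
-/

set_option autoImplicit false
set_option maxRecDepth 100000

namespace Cfsg.Agent.Fi24Mult

open Cfsg.Agent.Fi24
open Cfsg.Agent.CosetCert
open Cfsg.Spor.Fi24 (Gen)
open scoped commutatorElement

variable {Γ : Type} [Group Γ] [Finite Γ]

/-- What transfer leaves of the order. -/
theorem pow_exponent (σ : Γ →* Cfsg.Spor.Fi24') (h : Cfsg.IsStemExtension σ) {x : Γ}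
    (hx : x ∈ σ.ker) : x ^ (2 ^ 21 * 3 ^ 16 * 5 ^ 2 * 7 ^ 3) = 1 := by
  obtain ⟨hs, hc, hd⟩ := h
  have hcard : Nat.card Cfsg.Spor.Fi24' = 1255205709190661721292800 := isFi24'.2
  haveI : Finite Cfsg.Spor.Fi24' := Nat.finite_of_card_ne_zero (by rw [hcard]; norm_num)
  have key : ∀ p : ℕ, p.Prime → p ∣ 1255205709190661721292800 →
      orderOf x ∣ 1255205709190661721292800 / p := by
    intro p hp hdvd
    haveI := Fact.mk hp
    obtain ⟨a, ha⟩ := exists_prime_orderOf_dvd_card' (G := Cfsg.Spor.Fi24') p (hcard ▸ hdvd)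
    obtain ⟨g, rfl⟩ := hs a
    have h1 := SylMult.pow_index_eq_one σ hs hc (S := Subgroup.zpowers (σ g))
      (fun u v hu hv => SylMult.commute_of_cyclic σ hc hu hv) hx (hd hx)
    have h2 := (Subgroup.zpowers (σ g)).card_mul_index
    rw [Nat.card_zpowers, ha, hcard] at h2
    rw [← h2, Nat.mul_div_cancel_left _ hp.pos]
    exact orderOf_dvd_of_pow_eq_one h1
  refine orderOf_dvd_iff_pow_eq_one.1 ?_
  have h11 := key 11 (by norm_num) (by norm_num)
  have h13 := key 13 (by norm_num) (by norm_num)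
  have h17 := key 17 (by norm_num) (by norm_num)
  have h23 := key 23 (by norm_num) (by norm_num)
  have h29 := key 29 (by norm_num) (by norm_num)
  have := Nat.dvd_gcd h11 (Nat.dvd_gcd h13 (Nat.dvd_gcd h17 (Nat.dvd_gcd h23 h29)))
  refine this.trans (dvd_of_eq ?_)
  decide +kernel

theorem stem_bound (σ : Γ →* Cfsg.Spor.Fi24') (h : Cfsg.IsStemExtension σ) :
    ∃ z ∈ σ.ker, σ.ker ≤ Subgroup.zpowers z ∧ z ^ 3 = 1 := by
  have hexp := fun (x : Γ) hx => pow_exponent σ h (x := x) hx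
  obtain ⟨hs, hc0, hd0⟩ := h
  let τ : Γ →* G := (commutator G).subtype.comp σ
  have hker : τ.ker = σ.ker := by
    ext x
    simp only [MonoidHom.mem_ker]
    exact ⟨fun h => Subtype.ext h, fun h => congrArg Subtype.val h⟩
  have hr : τ.range = sign.ker := by
    rw [← commutator_eq]
    ext g
    exact ⟨fun ⟨x, hx⟩ => hx ▸ (σ x).2, fun hg => ⟨(hs ⟨g, hg⟩).choose,
      congrArg Subtype.val (hs ⟨g, hg⟩).choose_spec⟩⟩
  rw [← hker] at hc0 hd0 hexp ⊢
  obtain ⟨e, X, hX⟩ := exists_lifts τ hc0 hr.ge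
  obtain ⟨z₁, hz₁, z₂, hz₂, hZ, h1, h2, h12⟩ := spider_entries hc0 hr hX
  have hcen : ∀ {a : Γ}, a ∈ τ.ker → ∀ b : Γ, Commute b a := fun ha b =>
    Subgroup.mem_center_iff.1 (hc0 ha) b
  -- the entries generate the kernel
  let C0 : Subgroup Γ := Subgroup.closure {z₁, z₂}
  have hC0 : C0 ≤ τ.ker := by
    rw [Subgroup.closure_le]
    rintro x (rfl | rfl) <;> assumption
  let N0 : Subgroup (Tw Γ) :=
    { carrier := {w | w.odd = false ∧ w.p ∈ C0 ∧ w.q ∈ C0}
      one_mem' := ⟨rfl, one_mem _, one_mem _⟩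
      mul_mem' := fun {a b} ha hb => by
        obtain ⟨ho, hp, hq⟩ := ha
        obtain ⟨ho', hp', hq'⟩ := hb
        exact ⟨by simp [Tw.mul_def, ho, ho'], by simpa [Tw.mul_def, ho] using mul_mem hp hp',
          by simpa [Tw.mul_def, ho] using mul_mem hq hq'⟩
      inv_mem' := fun {a} ha => by
        obtain ⟨ho, hp, hq⟩ := ha
        exact ⟨by simp [Tw.inv_def, ho], by simpa [Tw.inv_def, ho] using inv_mem hp,
          by simpa [Tw.inv_def, ho] using inv_mem hq⟩ }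
  haveI hN : N0.Normal := ⟨fun b hb w => by
    obtain ⟨ho, hp, hq⟩ := hb
    have hb : b = Tw.pair b.p b.q := Tw.ext rfl rfl ho
    rw [hb, Tw.conj_pair (hc0 (hC0 hp)) (hc0 (hC0 hq))]
    cases w.odd
    · exact ⟨rfl, hp, hq⟩
    · exact ⟨rfl, hq, hp⟩⟩
  have hN0 : ∀ r, PresentedGroup.mk R r = 1 → FreeGroup.lift X r ∈ N0 := by
    intro r hr'
    have hmem : r ∈ Subgroup.normalClosure R := (QuotientGroup.eq_one_iff r).1 hr'
    refine Subgroup.normalClosure_le_normal (N := N0.comap (FreeGroup.lift X)) ?_ hmem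
    intro s hsR
    show FreeGroup.lift X s ∈ N0
    by_cases he : s = spiderRel
    · rw [he, hZ]
      exact ⟨rfl, Subgroup.subset_closure (Or.inl rfl), Subgroup.subset_closure (Or.inr rfl)⟩
    · rw [hX.rel s hsR he]
      exact one_mem _
  let Cp : Subgroup Γ :=
    { carrier := {γ | ∃ r q, FreeGroup.lift X r = Tw.pair γ q}
      one_mem' := ⟨1, 1, by rw [map_one, Tw.pair_one]⟩
      mul_mem' := fun ⟨r, q, hr₁⟩ ⟨s, q', hs₁⟩ =>
        ⟨r * s, q * q', by rw [map_mul, hr₁, hs₁, Tw.pair_mul]⟩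
      inv_mem' := fun ⟨r, q, hr₁⟩ => ⟨r⁻¹, q⁻¹, by rw [map_inv, hr₁, Tw.pair_inv]⟩ }
  have hCp : ∀ γ : Γ, ∃ c ∈ Cp, ∃ k ∈ τ.ker, γ = c * k := by
    intro γ
    obtain ⟨r, hr'⟩ := QuotientGroup.mk_surjective (τ γ)
    have hs1 : sign (τ γ) = 1 := by
      rw [← MonoidHom.mem_ker, ← hr]; exact ⟨γ, rfl⟩
    have hmk : PresentedGroup.mk R r = τ γ := hr'
    obtain ⟨ho, hp⟩ := hX.sign_over hr r (by rw [hmk]; exact hs1)
    refine ⟨(FreeGroup.lift X r).p, ⟨r, _, Tw.ext rfl rfl ho⟩,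
      (FreeGroup.lift X r).p⁻¹ * γ, ?_, (mul_inv_cancel_left _ _).symm⟩
    rw [MonoidHom.mem_ker, map_mul, map_inv, hp, hmk, inv_mul_cancel]
  have hcomm : commutator Γ ≤ Cp := by
    rw [commutator_eq_closure, Subgroup.closure_le]
    rintro _ ⟨x, y, rfl⟩
    obtain ⟨a, ha, k, hk, rfl⟩ := hCp x
    obtain ⟨b, hb, l, hl, rfl⟩ := hCp y
    have e : ⁅a * k, b * l⁆ = ⁅a, b⁆ := by
      simp only [commutatorElement_def, mul_inv_rev]
      rw [mul_assoc a k (b * l), ← (hcen hk (b * l)).eq, ← mul_assoc a (b * l) k,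
        mul_assoc (a * (b * l)) k, mul_inv_cancel_left, ← mul_assoc a b l,
        mul_assoc (a * b) l a⁻¹, ← (hcen hl a⁻¹).eq, ← mul_assoc (a * b) a⁻¹ l,
        mul_assoc (a * b * a⁻¹) l, mul_inv_cancel_left]
    show ⁅a * k, b * l⁆ ∈ Cp
    rw [e]
    exact mul_mem (mul_mem (mul_mem ha hb) (inv_mem ha)) (inv_mem hb)
  have hgen : τ.ker ≤ C0 := by
    intro a ha
    obtain ⟨r, q, hrq⟩ := hcomm (hd0 ha)
    have hmk : PresentedGroup.mk R r = 1 := by
      rw [← (hX.over_mk r).1, hrq]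
      show τ a * 1 = 1
      rw [mul_one]
      exact MonoidHom.mem_ker.1 ha
    have := hN0 r hmk
    rw [hrq] at this
    exact this.2.1
  -- cubes are 630th powers
  have hcube : ∀ a ∈ τ.ker, IsPow630 τ (a ^ 3) := by
    intro a ha
    induction hgen ha using Subgroup.closure_induction with
    | mem x hx => rcases hx with rfl | rfl <;> assumption
    | one => rw [one_pow]; exact isPow630_one
    | mul x y hx hy ihx ihy =>
      rw [(hcen (hC0 hy) x).mul_pow]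
      exact isPow630_mul hc0 (ihx (hC0 hx)) (ihy (hC0 hy))
    | inv x hx ihx => rw [inv_pow]; exact isPow630_inv (ihx (hC0 hx))
  have hiter : ∀ (n : ℕ), ∀ a ∈ τ.ker, ∃ c ∈ τ.ker, a ^ 3 = (c ^ 3) ^ 210 ^ n := by
    intro n
    induction n with
    | zero => exact fun a ha => ⟨a, ha, by rw [pow_zero, pow_one]⟩
    | succ n ih =>
      intro a ha
      obtain ⟨c, hc', he⟩ := ih a ha
      obtain ⟨d, hd', hde⟩ := hcube c hc'
      refine ⟨d, hd', ?_⟩
      rw [he, hde, ← pow_mul, ← pow_mul, pow_succ' 210, ← Nat.mul_assoc]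
  have h3 : ∀ a ∈ τ.ker, a ^ 3 = 1 := by
    intro a ha
    obtain ⟨c, hc', he⟩ := hiter 21 a ha
    obtain ⟨m, hm⟩ : 2 ^ 21 * 3 ^ 16 * 5 ^ 2 * 7 ^ 3 ∣ 210 ^ 21 :=
      Nat.dvd_of_mod_eq_zero (by decide +kernel)
    rw [he, pow_right_comm, hm, pow_mul c, hexp c hc', one_pow, one_pow]
  have hz12 : z₁ * z₂ = 1 := by
    obtain ⟨c, hc', he⟩ := h12
    rw [he, show 630 = 3 * 210 from rfl, pow_mul, h3 c hc', one_pow]
  refine ⟨z₁, hz₁, fun a ha => ?_, h3 z₁ hz₁⟩
  refine (Subgroup.closure_le _).2 ?_ (hgen ha)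
  rintro x (rfl | rfl)
  · exact Subgroup.mem_zpowers _
  · rw [show x = z₁⁻¹ from (inv_eq_of_mul_eq_one_right hz12).symm]
    exact inv_mem (Subgroup.mem_zpowers _)

end Cfsg.Agent.Fi24Mult
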