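import Cfsg.Agent.CosetCert.PowerCheck

/-!
Walks in a table whose edges carry values modulo 3, negated along the way.
-/

set_option autoImplicit false

namespace Cfsg.Agent.Fi24Mult

open Cfsg.Agent.CosetCert

/-- The value after an edge of value `v`. -/
noncomputable def vnext (v e : Nat) : Nat := Nat.mod (Nat.sub (Nat.add v 3) e) 3

/-- Follow a word from `c` with the value `e`; the result is `end * 4 + value`. -/
noncomputable def vrun (D : Data) (V : Nat → Nat → Nat) (w : List Nat) : Nat → Nat → Nat :=
  List.rec (fun c e => Nat.add (Nat.mul c 4) e)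
    (fun x _ ih c e => force (vnext (V c x) e) fun e' => force (D.T c x) fun c' => ih c' e') w

/-- Repeat a stored step; `odd` says whether it negates. -/
noncomputable def viter (st : Nat → Nat) (odd : Bool) (k : Nat) : Nat → Nat :=
  Nat.rec (fun s => s) (fun _ ih s => force (st (Nat.div s 4)) fun t =>
    force (Bool.rec (motive := fun _ => Nat) (Nat.mod (Nat.add (Nat.mod t 4) (Nat.mod s 4)) 3)
      (vnext (Nat.mod t 4) (Nat.mod s 4)) odd) fun e =>
      force (Nat.add (Nat.mul (Nat.div t 4) 4) e) ih) k

/-- Where the row is not zero, every listed word through a nonzero edge closes with value zero. -/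
noncomputable def checkPairWords (D : Data) (VR : Nat → Nat) (V : Nat → Nat → Nat)
    (L : List (List Nat)) (c : Nat) : Bool :=
  Bool.rec (motive := fun _ => Bool)
    (List.rec true (fun w _ ih => gate
      (Bool.rec (motive := fun _ => Bool) (Nat.beq (vrun D V w c 0) (Nat.mul c 4)) true
        (gate (Nat.beq (V c (w.headD 0)) 0) (Nat.beq (V c (w.tail.headD 0)) 0))) ih) L)
    true (Nat.beq (VR c) 0)

/-- The stored step is the word's, and `pre` followed by its `k`th power shifts `c` by `d`. -/
noncomputable def checkVPower (D : Data) (V : Nat → Nat → Nat) (w pre : List Nat) (st : Nat → Nat)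
    (odd : Bool) (k d c : Nat) : Bool :=
  force (vrun D V w c 0) fun t => gate (Nat.beq (st c) t)
    (force (vrun D V pre c 0) fun s => Nat.beq (viter st odd k s) (Nat.add (Nat.mul c 4) d))

end Cfsg.Agent.Fi24Mult
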