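import Cfsg.Agent.Fi24Mult.Perms
import Cfsg.Prelude.Def_KGroupFacts

/-!
The threefold cover of Fi24': the commutator subgroup of the group on three sheets.
-/

set_option autoImplicit false
set_option maxRecDepth 100000

namespace Cfsg.Agent.Fi24Mult.Cov

open Cfsg.Agent.Fi24
open Cfsg.Agent.CosetCert
open Cfsg.Spor.Fi24 (Gen edges)
open scoped commutatorElement

theorem ker_perfect : ⁅sign.ker, sign.ker⁆ = sign.ker := by
  refine le_antisymm (Subgroup.commutator_le_self _) (ker_le inferInstance fun hb => ?_)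
  have hc : ∀ a b : sign.ker, a * b = b * a := fun a b => by
    have h := Subgroup.commutator_mem_commutator a.2 b.2
    rw [hb, Subgroup.mem_bot] at h
    exact Subtype.ext (commutatorElement_eq_one_iff_mul_comm.1 h)
  letI : CommGroup sign.ker := { (inferInstance : Group sign.ker) with mul_comm := hc }
  haveI := ker_simple
  have hp := IsSimpleGroup.prime_card (α := sign.ker)
  rw [card_ker] at hp
  exact Nat.not_prime_mul (a := 2) (b := 627602854595330860646400) (by norm_num) (by norm_num) hp

theorem block (w : FreeGroup Gen) : ∀ z : Pt, (Ψ w z).1 = φ (PresentedGroup.mk R w) z.1 := by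
  induction w using FreeGroup.induction_on with
  | C1 => intro z; simp
  | of b =>
    intro z
    apply Fin.ext
    have hlt : Fi24Index.enc b < 12 := (Fi24Index.spells.enc_lt b).1
    have h := φ_apply [Fi24Index.enc b] (by simpa using hlt) z.1
    rw [el_single hlt, (Fi24Index.spells.enc_lt b).2, List.reverse_singleton, Data.fwd_cons,
      Data.fwd_nil] at h
    rw [Ψ, FreeGroup.lift_apply_of, P_apply, act_fst hlt]
    exact h.symm
  | inv_of b hb =>
    intro z
    rw [map_inv, show Ψ (FreeGroup.of b) = P b from FreeGroup.lift_apply_of, P_inv, map_inv,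
      show PresentedGroup.mk R (FreeGroup.of b) = gen b from rfl, gen_inv]
    have h := hb z
    rwa [show Ψ (FreeGroup.of b) = P b from FreeGroup.lift_apply_of] at h
  | mul u v hu hv =>
    intro z
    rw [map_mul, map_mul, map_mul, Equiv.Perm.mul_apply, Equiv.Perm.mul_apply, hu, hv]

theorem mk_of_Ψ {w : FreeGroup Gen} (h : Ψ w = 1) : PresentedGroup.mk R w = 1 := by
  apply φ_injective
  rw [map_one]
  refine Equiv.ext fun c => ?_
  have := block w (c, 0)
  rw [h] at this
  exact this.symm

/-- The group on the sheets. -/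
abbrev E : Type := ↥Ψ.range

/-- The group covers Fi24. -/
noncomputable def proj : E →* G :=
  (QuotientGroup.lift Ψ.ker (PresentedGroup.mk R) fun w hw => mk_of_Ψ hw).comp
    (QuotientGroup.quotientKerEquivRange Ψ).symm.toMonoidHom

theorem proj_mk (w : FreeGroup Gen) : proj ⟨Ψ w, w, rfl⟩ = PresentedGroup.mk R w := by
  have e : (QuotientGroup.quotientKerEquivRange Ψ).symm ⟨Ψ w, w, rfl⟩ = (w : FreeGroup Gen ⧸ Ψ.ker) := by
    rw [MulEquiv.symm_apply_eq]
    rfl
  show QuotientGroup.lift Ψ.ker (PresentedGroup.mk R) (fun w hw => mk_of_Ψ hw) ((QuotientGroup.quotientKerEquivRange Ψ).symm _) = _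
  rw [e]
  rfl

theorem proj_surjective : Function.Surjective proj := fun g => by
  obtain ⟨w, hw⟩ := QuotientGroup.mk_surjective g
  exact ⟨⟨Ψ w, w, rfl⟩, (proj_mk w).trans hw⟩

theorem Ψ_rels {w : FreeGroup Gen} (h : PresentedGroup.mk R w = 1) :
    Ψ w ∈ Subgroup.zpowers S := by
  have hcj : ∀ v : FreeGroup Gen, Ψ v * S * (Ψ v)⁻¹ = S ∨ Ψ v * S * (Ψ v)⁻¹ = S⁻¹ := by
    intro v
    induction v using FreeGroup.induction_on with
    | C1 => simp
    | of b =>
      rw [show Ψ (FreeGroup.of b) = P b from FreeGroup.lift_apply_of]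
      exact Or.inr (P_S b)
    | inv_of b _ =>
      rw [map_inv, show Ψ (FreeGroup.of b) = P b from FreeGroup.lift_apply_of, P_inv]
      exact Or.inr (P_S b)
    | mul u v hu hv =>
      rw [map_mul, show Ψ u * Ψ v * S * (Ψ u * Ψ v)⁻¹ = Ψ u * (Ψ v * S * (Ψ v)⁻¹) * (Ψ u)⁻¹ by
        simp only [mul_inv_rev, mul_assoc]]
      rcases hv with hv | hv <;> rw [hv]
      · exact hu
      · rw [← conj_inv]
        rcases hu with hu | hu <;> rw [hu]
        · exact Or.inr rfl
        · exact Or.inl (inv_inv S)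
  haveI hN : ((Subgroup.zpowers S).comap Ψ).Normal := ⟨fun v hv u => by
    show Ψ (u * v * u⁻¹) ∈ Subgroup.zpowers S
    obtain ⟨i, hi⟩ := Subgroup.mem_zpowers_iff.1 hv
    rw [map_mul, map_mul, map_inv, ← hi, ← conj_zpow]
    rcases hcj u with e | e <;> rw [e]
    · exact Subgroup.zpow_mem_zpowers _ _
    · exact zpow_mem (inv_mem (Subgroup.mem_zpowers _)) _⟩
  have hRL : Subgroup.normalClosure {r | r ∈ (coxWords Fi24Index.genList edges
      Cfsg.Spor.Fi24.extra).map FreeGroup.mk} ≤ (Subgroup.zpowers S).comap Ψ := by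
    apply Subgroup.normalClosure_le_normal
    intro r hr
    obtain ⟨l, hl, rfl⟩ := List.mem_map.1 hr
    show Ψ (FreeGroup.mk l) ∈ Subgroup.zpowers S
    rcases List.mem_append.1 hl with hl | hl
    · obtain ⟨p, -, rfl⟩ := List.mem_map.1 hl
      rw [mk_powPair, map_pow, map_mul, Ψ, FreeGroup.lift_apply_of, FreeGroup.lift_apply_of, P_pair]
      exact one_mem _
    · exact Ψ_extra l hl
  exact Subgroup.normalClosure_le_normal (fun r hr => hRL (Fi24Index.spells.rels_mem hr))
    ((QuotientGroup.eq_one_iff w).1 h)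

/-- The spider relator. -/
abbrev spider17 : FreeGroup Gen := (Cfsg.Spor.Fi24.d * Cfsg.Spor.Fi24.c * Cfsg.Spor.Fi24.b *
      Cfsg.Spor.Fi24.a * Cfsg.Spor.Fi24.k * Cfsg.Spor.Fi24.l * Cfsg.Spor.Fi24.d *
      Cfsg.Spor.Fi24.e * Cfsg.Spor.Fi24.f * Cfsg.Spor.Fi24.g * Cfsg.Spor.Fi24.j *
      Cfsg.Spor.Fi24.d * Cfsg.Spor.Fi24.h * Cfsg.Spor.Fi24.i) ^ 17

theorem mk_spider : PresentedGroup.mk R spider17 = 1 :=
  PresentedGroup.one_of_mem (Or.inr (by simp [Cfsg.Spor.Fi24.extra]))

theorem S_mem : S ∈ Ψ.range := ⟨_, Ψ_spider⟩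

/-- The turn of the sheets in the group. -/
noncomputable def sE : E := ⟨S, S_mem⟩

theorem ker_proj {g : E} (h : proj g = 1) : g ∈ Subgroup.zpowers sE := by
  obtain ⟨_, w, rfl⟩ := g
  rw [proj_mk] at h
  obtain ⟨i, hi⟩ := Subgroup.mem_zpowers_iff.1 (Ψ_rels h)
  exact Subgroup.mem_zpowers_iff.2 ⟨i, Subtype.ext hi⟩

theorem proj_sE : proj sE = 1 := by
  have e : sE = ⟨_, _, rfl⟩ := Subtype.ext Ψ_spider.symm
  rw [e, proj_mk]
  exact mk_spider

theorem sE_three : sE ^ 3 = 1 := Subtype.ext S_three

theorem orderOf_sE : orderOf sE = 3 :=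
  haveI := Fact.mk Nat.prime_three
  orderOf_eq_prime sE_three fun h => S_ne_one (congrArg Subtype.val h)

/-- The generators in the group. -/
noncomputable def PE (b : Gen) : E := ⟨P b, FreeGroup.of b, FreeGroup.lift_apply_of⟩

theorem PE_sq (b : Gen) : PE b * PE b = 1 := Subtype.ext (P_sq b)

theorem PE_pair (x y : Gen) : (PE x * PE y) ^ Cfsg.Spor.coxLabel edges x y = 1 :=
  Subtype.ext (P_pair x y)

/-- A map equal on all generators kills the turn of the sheets. -/
theorem map_sE {Q : Type*} [Group Q] (f : E →* Q) {a : Q} (ha : ∀ b, f (PE b) = a) :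
    f sE = 1 := by
  have h2 : a * a = 1 := by rw [← ha .a, ← map_mul, PE_sq, map_one]
  have e : sE = (PE .d * PE .c * PE .b * PE .a * PE .k * PE .l * PE .d * PE .e * PE .f * PE .g *
      PE .j * PE .d * PE .h * PE .i) ^ 17 := by
    apply Subtype.ext
    show S = _
    rw [← Ψ_spider]
    simp only [map_pow, map_mul, Ψ, Cfsg.Spor.Fi24.a, Cfsg.Spor.Fi24.b, Cfsg.Spor.Fi24.c,
      Cfsg.Spor.Fi24.d, Cfsg.Spor.Fi24.e, Cfsg.Spor.Fi24.f, Cfsg.Spor.Fi24.g, Cfsg.Spor.Fi24.h,
      Cfsg.Spor.Fi24.i, Cfsg.Spor.Fi24.j, Cfsg.Spor.Fi24.k, Cfsg.Spor.Fi24.l,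
      FreeGroup.lift_apply_of, PE, Subgroup.coe_pow]
    rfl
  rw [e, map_pow]
  simp only [map_mul, ha, mul_assoc, h2, mul_one, one_pow]

theorem gens_equal_ab (x : Gen) :
    Abelianization.of (PE x) = Abelianization.of (PE .a) := by
  have st : ∀ {x y : Gen}, Abelianization.of (PE x) = Abelianization.of (PE .a) →
      Cfsg.Spor.coxLabel edges x y = 3 → Abelianization.of (PE y) = Abelianization.of (PE .a) := by
    intro x y hx h
    have h3 := PE_pair x y
    rw [h] at h3
    have h3' := congrArg Abelianization.of h3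
    rw [map_pow, map_mul, map_one] at h3'
    have sx : Abelianization.of (PE x) * Abelianization.of (PE x) = 1 := by
      rw [← map_mul, PE_sq, map_one]
    have sy : Abelianization.of (PE y) * Abelianization.of (PE y) = 1 := by
      rw [← map_mul, PE_sq, map_one]
    rw [pow_succ, pow_two, mul_mul_mul_comm (Abelianization.of (PE x)), sx, sy, one_mul,
      one_mul] at h3'
    rw [← hx]
    exact (inv_eq_of_mul_eq_one_right h3').symm.trans (inv_eq_of_mul_eq_one_right sx)
  have ha := rfl (a := Abelianization.of (PE Gen.a))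
  have hk : Abelianization.of (PE .k) = _ := st ha (by decide)
  have hl : Abelianization.of (PE .l) = _ := st hk (by decide)
  have hb : Abelianization.of (PE .b) = _ := st ha (by decide)
  have hc : Abelianization.of (PE .c) = _ := st hb (by decide)
  have hd : Abelianization.of (PE .d) = _ := st hc (by decide)
  have he : Abelianization.of (PE .e) = _ := st hd (by decide)
  have hf : Abelianization.of (PE .f) = _ := st he (by decide)
  have hg : Abelianization.of (PE .g) = _ := st hf (by decide)
  have hj : Abelianization.of (PE .j) = _ := st hg (by decide)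
  have hh : Abelianization.of (PE .h) = _ := st hd (by decide)
  have hi : Abelianization.of (PE .i) = _ := st hh (by decide)
  cases x <;> assumption

theorem sE_mem : sE ∈ commutator E :=
  (QuotientGroup.eq_one_iff sE).1 (map_sE Abelianization.of gens_equal_ab)

/-- The cover. -/
abbrev Cov3 : Type := ↥(commutator E)

theorem map_comm : (commutator E).map proj = commutator G := by
  rw [commutator_def, Subgroup.map_commutator, Subgroup.map_top_of_surjective proj proj_surjective,
    ← commutator_def]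

/-- The covering map. -/
noncomputable def covHom : Cov3 →* Cfsg.Spor.Fi24' :=
  (proj.comp (commutator E).subtype).codRestrict (commutator G) fun x =>
    map_comm ▸ Subgroup.mem_map_of_mem proj x.2

theorem covHom_val (x : Cov3) : ((covHom x : Cfsg.Spor.Fi24') : G) = proj x := rfl

/-- The generator of the kernel. -/
noncomputable def s0 : Cov3 := ⟨sE, sE_mem⟩

theorem ker_covHom : covHom.ker = Subgroup.zpowers s0 := by
  refine le_antisymm (fun x hx => ?_) ((Subgroup.zpowers_le).2 (Subtype.ext proj_sE))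
  have h : proj (x : E) = 1 := by
    rw [← covHom_val, MonoidHom.mem_ker.1 hx]; rfl
  obtain ⟨i, hi⟩ := Subgroup.mem_zpowers_iff.1 (ker_proj h)
  exact Subgroup.mem_zpowers_iff.2 ⟨i, Subtype.ext hi⟩

theorem s0_central : s0 ∈ Subgroup.center Cov3 := by
  have hcj : ∀ g : E, MulAut.conj g sE = sE ∨ MulAut.conj g sE = sE⁻¹ := by
    rintro ⟨_, w, rfl⟩
    have hS : Ψ w * S * (Ψ w)⁻¹ ∈ Subgroup.zpowers S := by
      rw [← Ψ_spider, ← map_inv, ← map_mul, ← map_mul, Ψ_spider]
      exact Ψ_rels (by rw [map_mul, map_mul, mk_spider, mul_one, map_inv, mul_inv_cancel])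
    obtain ⟨i, hi⟩ := Subgroup.mem_zpowers_iff.1 hS
    have h3 : S ^ (3 : ℤ) = 1 := by exact_mod_cast S_three
    obtain ⟨r, hr, hir⟩ : ∃ r, (r = 0 ∨ r = 1 ∨ r = 2) ∧ i = r + 3 * (i / 3) :=
      ⟨i % 3, by omega, by omega⟩
    rw [hir, zpow_add, zpow_mul, h3, one_zpow, mul_one] at hi
    rcases hr with e | e | e <;> rw [e] at hi
    · exfalso
      rw [zpow_zero] at hi
      exact S_ne_one (conj_eq_one_iff.1 hi.symm)
    · exact Or.inl (Subtype.ext (by rw [zpow_one] at hi; exact hi.symm))
    · refine Or.inr (Subtype.ext ?_)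
      show Ψ w * S * (Ψ w)⁻¹ = S⁻¹
      rw [← hi, eq_inv_iff_mul_eq_one, show (2 : ℤ) = (2 : ℕ) from rfl, zpow_natCast, ← pow_succ,
        S_three]
  have hcomm : commutator E ≤ Subgroup.centralizer ({sE} : Set E) := by
    rw [commutator_def, Subgroup.commutator_le]
    intro g _ h _
    rw [Subgroup.mem_centralizer_singleton_iff]
    have key : MulAut.conj ⁅g, h⁆ sE = sE := by
      have e : MulAut.conj ⁅g, h⁆ sE =
          MulAut.conj g (MulAut.conj h (MulAut.conj g⁻¹ (MulAut.conj h⁻¹ sE))) := by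
        simp [commutatorElement_def, mul_assoc]
      have flip : ∀ u : E, MulAut.conj u⁻¹ sE = MulAut.conj u sE := by
        intro u
        rcases hcj u with hu | hu <;> rw [hu]
        · conv_lhs => rw [← hu]
          simp [mul_assoc]
        · have := congrArg (MulAut.conj u⁻¹) hu
          rw [map_inv (MulAut.conj u⁻¹), show MulAut.conj u⁻¹ (MulAut.conj u sE) = sE by
            simp [mul_assoc]] at this
          exact inv_eq_iff_eq_inv.1 this.symm
      rw [e, flip h]
      rcases hcj h with hh | hh <;> rcases hcj g with hg | hg <;>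
        simp only [hh, hg, map_inv (MulAut.conj g⁻¹), map_inv (MulAut.conj g),
          map_inv (MulAut.conj h), flip g, inv_inv]
    rw [MulAut.conj_apply, mul_inv_eq_iff_eq_mul] at key
    exact key
  exact Subgroup.mem_center_iff.2 fun x => Subtype.ext
    (Subgroup.mem_centralizer_singleton_iff.1 (hcomm x.2))

theorem s0_mem : s0 ∈ commutator Cov3 := by
  let K2 : Subgroup E := ⁅commutator E, commutator E⁆
  haveI : K2.Normal := Subgroup.commutator_normal _ _
  have hmap : (commutator Cov3).map (commutator E).subtype = K2 := by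
    show Subgroup.map _ (⁅(⊤ : Subgroup Cov3), (⊤ : Subgroup Cov3)⁆ : Subgroup Cov3) = _
    rw [Subgroup.map_commutator, ← MonoidHom.range_eq_map, Subgroup.range_subtype]
  suffices h : sE ∈ K2 by
    rw [← hmap] at h
    obtain ⟨x, hx, he⟩ := h
    exact (Subtype.ext he : x = s0) ▸ hx
  let q : E →* E ⧸ K2 := QuotientGroup.mk' K2
  have hpow : ∀ g ∈ commutator E, q g ^ 3 = 1 := by
    intro g hg
    have h1 : proj g ∈ sign.ker := by
      rw [← commutator_eq, ← map_comm]; exact Subgroup.mem_map_of_mem _ hg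
    rw [← ker_perfect, ← commutator_eq, ← map_comm, ← Subgroup.map_commutator] at h1
    obtain ⟨u, hu, hue⟩ := h1
    obtain ⟨i, hi⟩ := Subgroup.mem_zpowers_iff.1
      (ker_proj (g := u⁻¹ * g) (by rw [map_mul, map_inv, hue, inv_mul_cancel]))
    have hg' : g = u * sE ^ i := by rw [hi, mul_inv_cancel_left]
    have hu1 : q u = 1 := (QuotientGroup.eq_one_iff u).2 hu
    rw [hg', map_mul, hu1, one_mul, ← map_pow, ← zpow_natCast, ← zpow_mul, mul_comm, zpow_mul,
      zpow_natCast, sE_three, one_zpow, map_one]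
  have heq : ∀ x y : Gen, Cfsg.Spor.coxLabel edges x y = 2 → q (PE x) = q (PE y) := by
    intro x y h
    have hmem : PE x * PE y ∈ commutator E := by
      refine (QuotientGroup.eq_one_iff (PE x * PE y)).1 ?_
      show Abelianization.of (PE x * PE y) = 1
      rw [map_mul, gens_equal_ab x, gens_equal_ab y, ← map_mul, PE_sq, map_one]
    have h2 : q (PE x * PE y) ^ 2 = 1 := by
      rw [← map_pow, ← h, PE_pair, map_one]
    have h1 : q (PE x * PE y) = 1 := by
      have h3 := hpow _ hmem
      rwa [pow_succ, h2, one_mul] at h3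
    rw [map_mul] at h1
    rw [eq_inv_of_mul_eq_one_left h1, ← map_inv, inv_eq_of_mul_eq_one_right (PE_sq y)]
  have hall : ∀ x, q (PE x) = q (PE .a) := by
    have hd : q (PE .d) = q (PE .a) := heq _ _ (by decide)
    intro x
    cases x
    case a => rfl
    case b => exact (heq _ .d (by decide)).trans hd
    case k => exact (heq _ .d (by decide)).trans hd
    all_goals exact heq _ _ (by decide)
  exact (QuotientGroup.eq_one_iff sE).1 (map_sE q hall)

theorem covHom_stem : Cfsg.IsStemExtension covHom := by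
  refine ⟨fun g => ?_, ?_, ?_⟩
  · have h : (g : G) ∈ (commutator E).map proj := by rw [map_comm]; exact g.2
    obtain ⟨x, hx, he⟩ := h
    exact ⟨⟨x, hx⟩, Subtype.ext he⟩
  · rw [ker_covHom, Subgroup.zpowers_le]; exact s0_central
  · rw [ker_covHom, Subgroup.zpowers_le]; exact s0_mem

theorem card_ker_covHom : Nat.card covHom.ker = 3 := by
  rw [ker_covHom, Nat.card_zpowers, ← orderOf_sE]
  exact (Subgroup.orderOf_coe s0).symm

end Cfsg.Agent.Fi24Mult.Cov
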