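import Mathlib

/-!
Pairs of group elements with a bit that exchanges them.
-/

set_option autoImplicit false

namespace Cfsg.Agent.Fi24Mult

/-- A pair and a parity. -/
@[ext] structure Tw (Γ : Type*) where
  /-- the first entry -/
  p : Γ
  /-- the second entry -/
  q : Γ
  /-- whether the entries of a following element are exchanged -/
  odd : Bool

namespace Tw

variable {Γ : Type*} [Group Γ]

instance : One (Tw Γ) := ⟨⟨1, 1, false⟩⟩

instance : Mul (Tw Γ) :=
  ⟨fun a b => ⟨a.p * (bif a.odd then b.q else b.p), a.q * (bif a.odd then b.p else b.q),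
    xor a.odd b.odd⟩⟩

instance : Inv (Tw Γ) :=
  ⟨fun a => bif a.odd then ⟨a.q⁻¹, a.p⁻¹, true⟩ else ⟨a.p⁻¹, a.q⁻¹, false⟩⟩

theorem mul_def (a b : Tw Γ) : a * b = ⟨a.p * (bif a.odd then b.q else b.p),
    a.q * (bif a.odd then b.p else b.q), xor a.odd b.odd⟩ := rfl

@[simp] theorem one_p : (1 : Tw Γ).p = 1 := rfl
@[simp] theorem one_q : (1 : Tw Γ).q = 1 := rfl
@[simp] theorem one_odd : (1 : Tw Γ).odd = false := rfl

theorem inv_def (a : Tw Γ) :
    a⁻¹ = bif a.odd then ⟨a.q⁻¹, a.p⁻¹, true⟩ else ⟨a.p⁻¹, a.q⁻¹, false⟩ := rfl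

instance : Group (Tw Γ) where
  mul_assoc a b c := by
    obtain ⟨p, q, _ | _⟩ := a <;> obtain ⟨p', q', _ | _⟩ := b <;>
      simp [mul_def, mul_assoc]
  one_mul a := by ext <;> simp [mul_def]
  mul_one a := by obtain ⟨p, q, _ | _⟩ := a <;> simp [mul_def]
  inv_mul_cancel a := by obtain ⟨p, q, _ | _⟩ := a <;> ext <;> simp [mul_def, inv_def]

instance [Finite Γ] : Finite (Tw Γ) :=
  Finite.of_equiv (Γ × Γ × Bool)
    ⟨fun x => ⟨x.1, x.2.1, x.2.2⟩, fun a => (a.p, a.q, a.odd), fun _ => rfl, fun _ => rfl⟩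

/-- An even pair. -/
def pair (a b : Γ) : Tw Γ := ⟨a, b, false⟩

theorem pair_mul (a b c d : Γ) : pair a b * pair c d = pair (a * c) (b * d) := by
  simp [pair, mul_def]

theorem pair_one : pair (1 : Γ) 1 = 1 := rfl

theorem pair_pow (a b : Γ) (n : ℕ) : pair a b ^ n = pair (a ^ n) (b ^ n) := by
  induction n with
  | zero => simp [pair_one]
  | succ n ih => rw [pow_succ, pow_succ, pow_succ, ih, pair_mul]

theorem pair_inv (a b : Γ) : (pair a b)⁻¹ = pair a⁻¹ b⁻¹ := by simp [pair, inv_def]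

/-- Conjugating an even pair of central elements. -/
theorem conj_pair {a b : Γ} (ha : a ∈ Subgroup.center Γ) (hb : b ∈ Subgroup.center Γ) (w : Tw Γ) :
    w * pair a b * w⁻¹ = bif w.odd then pair b a else pair a b := by
  have ha' := fun x => Subgroup.mem_center_iff.1 ha x
  have hb' := fun x => Subgroup.mem_center_iff.1 hb x
  rw [mul_inv_eq_iff_eq_mul]
  obtain ⟨p, q, _ | _⟩ := w <;> simp [pair, mul_def, ha', hb']

end Tw

end Cfsg.Agent.Fi24Mult
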