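import Cfsg.Agent.Fi24Mult.Sections
import Cfsg.Agent.Fi24Mult.Tw

/-!
A central extension of Fi24' makes a group of pairs in which lifts of the twelve generators satisfy
every relation of Fi24 but the spider's: the sections over the centralisers of `l`, `j` and `i` fix
the lifts.
-/

set_option autoImplicit false

namespace Cfsg.Agent.Fi24Mult

open Cfsg.Agent.Fi24
open Cfsg.Spor.Fi24 (Gen edges)

/-- The spider word. -/
def spiderRel : FreeGroup Gen :=
  (Cfsg.Spor.Fi24.d * Cfsg.Spor.Fi24.c * Cfsg.Spor.Fi24.b * Cfsg.Spor.Fi24.a * Cfsg.Spor.Fi24.k *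
    Cfsg.Spor.Fi24.l * Cfsg.Spor.Fi24.d * Cfsg.Spor.Fi24.e * Cfsg.Spor.Fi24.f * Cfsg.Spor.Fi24.g *
    Cfsg.Spor.Fi24.j * Cfsg.Spor.Fi24.d * Cfsg.Spor.Fi24.h * Cfsg.Spor.Fi24.i) ^ 17

/-- The label of two nodes. -/
abbrev lab (x y : Gen) : ℕ := Cfsg.Spor.coxLabel edges x y

theorem gen_rel (x y : Gen) : (gen x * gen y) ^ lab x y = 1 := by
  have hn : ∀ z : Gen, z ∈ Cfsg.Spor.coxNodes edges := by intro z; cases z <;> decide
  have h := PresentedGroup.one_of_mem (rels := R)
    (x := (FreeGroup.of x * FreeGroup.of y) ^ lab x y) (Or.inl ⟨x, hn x, y, hn y, rfl⟩)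
  rwa [map_pow, map_mul] at h

theorem comm_of_lab {x y : Gen} (h : lab x y = 2) : gen x * gen y = gen y * gen x := by
  have h2 := gen_rel x y
  rw [h, pow_two] at h2
  have h' := eq_inv_of_mul_eq_one_left h2
  rwa [mul_inv_rev, gen_inv, gen_inv] at h'

theorem sign_cases (g : G) : sign g = 1 ∨ sign g = Multiplicative.ofAdd 1 := by
  generalize sign g = v
  revert v
  decide

/-- `g` or `g * l`, whichever is even. -/
noncomputable def fixG (g : G) : G := if sign g = 1 then g else g * L

theorem fixG_sign (g : G) : sign (fixG g) = 1 := by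
  unfold fixG
  split_ifs with h
  · exact h
  · rw [map_mul, (sign_cases g).resolve_left h, sign_L]; decide

theorem fixG_mul {a b : G} (hb : b * L = L * b) : fixG (a * b) = fixG a * fixG b := by
  have hne : (Multiplicative.ofAdd (1 : ZMod 2)) ≠ 1 := by decide
  rcases sign_cases a with ha | ha <;> rcases sign_cases b with hb' | hb' <;>
    simp only [fixG, map_mul, ha, hb', one_mul, mul_one, hne, if_true, if_false, mul_assoc]
  · rw [hb]
  · rw [show (Multiplicative.ofAdd (1 : ZMod 2)) * Multiplicative.ofAdd 1 = 1 by decide, if_pos rfl,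
      ← mul_assoc L b L, ← hb, mul_assoc b, gen_sq, mul_one]

theorem fixG_mem_K {g : G} (hL : g * L = L * g) {t : G} (hg : g * t = t * g) (ht : L * t = t * L) :
    fixG g ∈ K t := by
  refine ⟨Subgroup.mem_centralizer_singleton_iff.2 ?_, fixG_sign g⟩
  unfold fixG
  split_ifs
  · exact hg
  · rw [mul_assoc, ht, ← mul_assoc, hg, mul_assoc]

theorem fixG_gen (x : Gen) : fixG (gen x) = gen x * L := by
  rw [fixG, sign_gen, if_neg (by decide)]

theorem fixG_L : fixG L = 1 := by rw [fixG_gen, gen_sq]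

/-- The element `kl`. -/
abbrev sK : G := gen .k * L

theorem sK_mem {t : Gen} (hk : lab .k t = 2) (hl : lab .l t = 2) : sK ∈ K (gen t) := by
  refine ⟨Subgroup.mem_centralizer_singleton_iff.2 ?_, ?_⟩
  · rw [mul_assoc, comm_of_lab hl, ← mul_assoc, comm_of_lab hk, mul_assoc]
  · show sign sK = 1
    rw [map_mul, sign_gen, sign_gen]; decide

theorem sK_pow_three : sK ^ 3 = 1 := by
  have h := gen_rel .k .l
  rwa [show lab .k .l = 3 by decide] at h

variable {Γ : Type} [Group Γ] [Finite Γ] (τ : Γ →* G)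

/-- What the lifts satisfy. -/
structure Lifts (e : H →* Tw Γ) (X : Gen → Tw Γ) : Prop where
  X_H : ∀ x (hx : x ≠ Gen.k), X x = e ⟨gen x, gen_mem hx⟩
  X_odd : ∀ x, (X x).odd = true
  X_sq : ∀ x, X x * X x = 1
  rel : ∀ r ∈ R, r ≠ spiderRel → FreeGroup.lift X r = 1
  lies : ∀ x, τ (X x).p * L = gen x ∧ τ (X x).q = L * τ (X x).p * L
  over_H : ∀ h : H, τ (e h).p * (bif (e h).odd then L else 1) = h ∧ (e h).q = (e h).p

theorem exists_lifts (hc : τ.ker ≤ Subgroup.center Γ) (hr : sign.ker ≤ τ.range) :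
    ∃ (e : H →* Tw Γ) (X : Gen → Tw Γ), Lifts τ e X := by
  classical
  have hcen : ∀ c ∈ τ.ker, ∀ g : Γ, g * c = c * g := fun c hc' g =>
    Subgroup.mem_center_iff.1 (hc hc') g
  obtain ⟨fl, hfl⟩ := exists_sect τ hc hr (IsConj.refl L)
  obtain ⟨fj, hfj⟩ := exists_sect τ hc hr (isConj_L .j)
  obtain ⟨fi, hfi⟩ := exists_sect τ hc hr (isConj_L .i)
  have hL : ∀ h : H, (h : G) * L = L * (h : G) := fun h => L_comm h.2
  -- the even part of a copy of `H ∩ C(t)`
  let mk : ∀ t : Gen, lab .l t = 2 ∨ t = .l →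
      ↥(H ⊓ Subgroup.centralizer ({gen t} : Set G)) →* ↥(K (gen t)) := fun t ht =>
    { toFun := fun h => ⟨fixG h, fixG_mem_K (hL ⟨h, h.2.1⟩)
        (Subgroup.mem_centralizer_singleton_iff.1 h.2.2)
        (by rcases ht with ht | ht
            · exact comm_of_lab ht
            · rw [ht])⟩
      map_one' := Subtype.ext (by simp [fixG])
      map_mul' := fun a b => Subtype.ext (fixG_mul (hL ⟨b, b.2.1⟩)) }
  -- the section over `H`
  let pH : H →* Γ := fl.comp
    { toFun := fun h => ⟨fixG h, fixG_mem_K (hL h) (hL h) rfl⟩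
      map_one' := Subtype.ext (by simp [fixG])
      map_mul' := fun a b => Subtype.ext (fixG_mul (hL b)) }
  have hpH : ∀ h : H, τ (pH h) = fixG h := fun h => hfl _
  let U : ∀ x : Gen, x ≠ .k → Γ := fun x hx => pH ⟨gen x, gen_mem hx⟩
  -- the differences of two sections
  let D : ∀ (t : Gen) (ht : lab .l t = 2 ∨ t = .l) (f : K (gen t) →* Γ),
      (∀ x, τ (f x) = x) → ↥(H ⊓ Subgroup.centralizer ({gen t} : Set G)) →* Γ := fun t ht f hf =>
    { toFun := fun h => (pH ⟨h, h.2.1⟩)⁻¹ * f (mk t ht h)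
      map_one' := by
        show (pH (1 : H))⁻¹ * f (mk t ht 1) = 1
        simp
      map_mul' := fun a b => by
        have hk : (pH ⟨b, b.2.1⟩)⁻¹ * f (mk t ht b) ∈ τ.ker := by
          rw [MonoidHom.mem_ker, map_mul, map_inv, hpH, hf]
          exact inv_mul_cancel _
        have hk' : (pH ⟨a, a.2.1⟩)⁻¹ * f (mk t ht a) ∈ τ.ker := by
          rw [MonoidHom.mem_ker, map_mul, map_inv, hpH, hf]
          exact inv_mul_cancel _
        have hab : (⟨(a * b : ↥(H ⊓ Subgroup.centralizer ({gen t} : Set G))), (a * b).2.1⟩ : H) =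
            ⟨a, a.2.1⟩ * ⟨b, b.2.1⟩ := rfl
        rw [hab, map_mul, map_mul, map_mul, mul_inv_rev]
        rw [← mul_assoc _ (f (mk t ht a)), mul_assoc _ _ (f (mk t ht a)), hcen _ hk',
          mul_assoc] }
  have hDk : ∀ (t : Gen) (ht : lab .l t = 2 ∨ t = .l) (f : K (gen t) →* Γ) (hf : ∀ x, τ (f x) = x)
      (h : ↥(H ⊓ Subgroup.centralizer ({gen t} : Set G))), D t ht f hf h ∈ τ.ker := by
    intro t ht f hf h
    show (pH ⟨h, h.2.1⟩)⁻¹ * f (mk t ht h) ∈ τ.ker
    rw [MonoidHom.mem_ker, map_mul, map_inv, hpH, hf]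
    exact inv_mul_cancel _
  have hgmem : ∀ {t x : Gen}, x ≠ .k → lab x t = 2 ∨ x = t →
      gen x ∈ H ⊓ Subgroup.centralizer ({gen t} : Set G) := fun {t x} hx hl =>
    ⟨gen_mem hx, Subgroup.mem_centralizer_singleton_iff.2 (by
      rcases hl with hl | hl
      · exact comm_of_lab hl
      · rw [hl])⟩
  have hDsq : ∀ (t : Gen) (ht : lab .l t = 2 ∨ t = .l) (f : K (gen t) →* Γ) (hf : ∀ x, τ (f x) = x)
      (x : Gen) (hm : gen x ∈ H ⊓ Subgroup.centralizer ({gen t} : Set G)),
      D t ht f hf ⟨gen x, hm⟩ * D t ht f hf ⟨gen x, hm⟩ = 1 := by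
    intro t ht f hf x hm
    rw [← map_mul, ← map_one (D t ht f hf)]
    exact congrArg _ (Subtype.ext (gen_sq x))
  let S : Γ := fj ⟨sK, sK_mem (t := .j) (by decide) (by decide)⟩
  have hj : lab .l .j = 2 ∨ Gen.j = .l := Or.inl (by decide)
  have hi : lab .l .i = 2 ∨ Gen.i = .l := Or.inl (by decide)
  -- the difference over `j` is trivial at `a`
  have hDa : D .j hj fj hfj ⟨gen .a, hgmem (by decide) (Or.inl (by decide))⟩ = 1 := by
    let d : ∀ x : Gen, x ≠ .k → lab x .j = 2 ∨ x = .j → Γ := fun x h1 h2 =>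
      D .j hj fj hfj ⟨gen x, hgmem h1 h2⟩
    have hbr : ∀ (x y : Gen) (h1 : x ≠ .k) (h2 : lab x .j = 2 ∨ x = .j) (h3 : y ≠ .k)
        (h4 : lab y .j = 2 ∨ y = .j), lab x y = 3 → d x h1 h2 = d y h3 h4 := by
      intro x y h1 h2 h3 h4 hxy
      have e : D .j hj fj hfj (⟨gen x, hgmem h1 h2⟩ * ⟨gen y, hgmem h3 h4⟩ * ⟨gen x, hgmem h1 h2⟩) =
          D .j hj fj hfj (⟨gen y, hgmem h3 h4⟩ * ⟨gen x, hgmem h1 h2⟩ * ⟨gen y, hgmem h3 h4⟩) :=
        congrArg _ (Subtype.ext (braid hxy))
      simp only [map_mul] at e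
      have sx : d x h1 h2 * d x h1 h2 = 1 := hDsq .j hj fj hfj x _
      have sy : d y h3 h4 * d y h3 h4 = 1 := hDsq .j hj fj hfj y _
      have cxy := hcen _ (hDk .j hj fj hfj ⟨gen y, hgmem h3 h4⟩) (d x h1 h2)
      change d x h1 h2 * d y h3 h4 = d y h3 h4 * d x h1 h2 at cxy
      change d x h1 h2 * d y h3 h4 * d x h1 h2 = d y h3 h4 * d x h1 h2 * d y h3 h4 at e
      rw [cxy, mul_assoc, sx, mul_one, ← cxy, mul_assoc, sy, mul_one] at e
      exact e.symm
    have hb := hbr .a .b (by decide) (Or.inl (by decide)) (by decide) (Or.inl (by decide)) (by decide)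
    have hc' := hbr .b .c (by decide) (Or.inl (by decide)) (by decide) (Or.inl (by decide)) (by decide)
    have hd := hbr .c .d (by decide) (Or.inl (by decide)) (by decide) (Or.inl (by decide)) (by decide)
    have he := hbr .d .e (by decide) (Or.inl (by decide)) (by decide) (Or.inl (by decide)) (by decide)
    have hf := hbr .e .f (by decide) (Or.inl (by decide)) (by decide) (Or.inl (by decide)) (by decide)
    have hh := hbr .d .h (by decide) (Or.inl (by decide)) (by decide) (Or.inl (by decide)) (by decide)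
    have hLm : L ∈ H ⊓ Subgroup.centralizer ({gen Gen.j} : Set G) :=
      hgmem (by decide) (Or.inl (by decide))
    have hDL : D .j hj fj hfj ⟨L, hLm⟩ = 1 := by
      show (pH ⟨L, hLm.1⟩)⁻¹ * fj (mk .j hj ⟨L, hLm⟩) = 1
      rw [show mk .j hj ⟨L, hLm⟩ = 1 from Subtype.ext fixG_L, map_one, mul_one, inv_eq_one]
      show fl _ = 1
      rw [← map_one fl]
      exact congrArg fl (Subtype.ext fixG_L)
    have e : D .j hj fj hfj ⟨L, hLm⟩ = (d .a (by decide) (Or.inl (by decide)) *
        d .b (by decide) (Or.inl (by decide)) * d .c (by decide) (Or.inl (by decide)) *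
        d .d (by decide) (Or.inl (by decide)) * d .e (by decide) (Or.inl (by decide)) *
        d .f (by decide) (Or.inl (by decide)) * d .h (by decide) (Or.inl (by decide))) ^ 9 := by
      simp only [d, ← map_mul, ← map_pow]
      exact congrArg _ (Subtype.ext L_eq)
    rw [hDL, ← hf, ← he, ← hh, ← hd, ← hc', ← hb] at e
    obtain ⟨a, ha⟩ : ∃ a, a = d .a (by decide) (Or.inl (by decide)) := ⟨_, rfl⟩
    rw [← ha] at e
    have h2 : a * a = 1 := ha ▸ hDsq .j hj fj hfj .a _
    show d .a (by decide) (Or.inl (by decide)) = 1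
    rw [← ha]
    calc a = a ^ 63 := by rw [show 63 = 2 * 31 + 1 from rfl, pow_succ, pow_mul, pow_two, h2, one_pow, one_mul]
      _ = 1 := by
        rw [e]
        simp only [← pow_succ, ← pow_mul, ← pow_two]
  have hS3 : S ^ 3 = 1 := by
    show fj _ ^ 3 = 1
    rw [← map_pow, ← map_one fj]
    exact congrArg fj (Subtype.ext sK_pow_three)
  have hU2 : ∀ x hx, U x hx * U x hx = 1 := fun x hx => by
    rw [← map_mul, ← map_one pH]
    exact congrArg pH (Subtype.ext (gen_sq x))
  have hUl : ∀ h, U .l h = 1 := fun h => by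
    show fl _ = 1
    rw [← map_one fl]
    exact congrArg fl (Subtype.ext fixG_L)
  -- the relations between `S` and the other lifts
  have hrelG : ∀ {t y : Gen} (_ : lab .l t = 2) (hyl : lab y .l = 2),
      ∀ (m : ℕ), lab .k y = m → (sK * fixG (gen y)) ^ m = 1 := by
    intro t y _ hyl m hm
    rw [fixG_gen, show sK * (gen y * L) = gen .k * gen y by
      rw [mul_assoc, ← mul_assoc L, ← comm_of_lab hyl, mul_assoc, gen_sq, mul_one], ← hm]
    exact gen_rel _ _
  have hSU : ∀ y hy, (S * U y hy) ^ lab .k y = 1 := by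
    intro y hy
    by_cases hl : y = .l
    · subst hl
      rw [hUl hy, mul_one, show lab .k .l = 3 by decide]
      exact hS3
    have hyl : lab y .l = 2 := by
      cases y <;> first | exact absurd rfl hy | exact absurd rfl hl | decide
    by_cases hg : y = .g
    · subst hg
      have hgi : gen Gen.g ∈ H ⊓ Subgroup.centralizer ({gen Gen.i} : Set G) :=
        hgmem hy (Or.inl (by decide))
      have hbi : gen Gen.b ∈ H ⊓ Subgroup.centralizer ({gen Gen.i} : Set G) :=
        hgmem (by decide) (Or.inl (by decide))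
      have hbj : gen Gen.b ∈ H ⊓ Subgroup.centralizer ({gen Gen.j} : Set G) :=
        hgmem (by decide) (Or.inl (by decide))
      obtain ⟨S', hS'⟩ : ∃ S', S' = fi ⟨sK, sK_mem (t := .i) (by decide) (by decide)⟩ := ⟨_, rfl⟩
      obtain ⟨α, hα⟩ : ∃ α, α = S⁻¹ * S' := ⟨_, rfl⟩
      have hαk : α ∈ τ.ker := by
        rw [hα, MonoidHom.mem_ker, map_mul, map_inv, hS', hfi, hfj]
        exact inv_mul_cancel _
      have hSα : S' = S * α := by rw [hα, mul_inv_cancel_left]
      have hα3 : α ^ 3 = 1 := by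
        have h3 : S' ^ 3 = 1 := by
          rw [hS', ← map_pow, ← map_one fi]
          exact congrArg fi (Subtype.ext sK_pow_three)
        rwa [hSα, (show Commute S α from hcen α hαk S).mul_pow, hS3, one_mul] at h3
      have key : ∀ (x : Gen) (hx : x ≠ .k) (hxl : lab x .l = 2) (hm : lab .k x = 2)
          (hxi : gen x ∈ H ⊓ Subgroup.centralizer ({gen Gen.i} : Set G)),
          (S * U x hx) * (S * U x hx) * (α * α) = 1 := by
        intro x hx hxl hm hxi
        have h1 : (S' * fi (mk .i hi ⟨gen x, hxi⟩)) ^ 2 = 1 := by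
          rw [hS', ← map_mul, ← map_pow, ← map_one fi]
          exact congrArg fi (Subtype.ext (hrelG (t := .i) (by decide) hxl 2 hm))
        obtain ⟨δ, hδ⟩ : ∃ δ, δ = D .i hi fi hfi ⟨gen x, hxi⟩ := ⟨_, rfl⟩
        have hδk : δ ∈ τ.ker := hδ ▸ hDk .i hi fi hfi _
        have hUδ : fi (mk .i hi ⟨gen x, hxi⟩) = U x hx * δ := by
          rw [hδ]; exact (mul_inv_cancel_left _ _).symm
        have hδ2 : δ * δ = 1 := hδ ▸ hDsq .i hi fi hfi x hxi
        have e : S * α * (U x hx * δ) = S * U x hx * (α * δ) := by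
          rw [mul_assoc S α, ← mul_assoc α, ← hcen α hαk (U x hx), mul_assoc (U x hx),
            ← mul_assoc S]
        rw [hUδ, hSα, e, (show Commute (S * U x hx) (α * δ) from hcen _ (mul_mem hαk hδk) _).mul_pow,
          (show Commute α δ from hcen _ hδk α).mul_pow, pow_two, pow_two, pow_two, hδ2, mul_one] at h1
        exact h1
      have hb2 : (S * U .b (by decide)) * (S * U .b (by decide)) = 1 := by
        have h1 : (S * fj (mk .j hj ⟨gen .b, hbj⟩)) ^ 2 = 1 := by
          rw [← map_mul, ← map_pow, ← map_one fj]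
          exact congrArg fj (Subtype.ext (hrelG (t := .j) (by decide) (by decide) 2 (by decide)))
        obtain ⟨δ, hδ⟩ : ∃ δ, δ = D .j hj fj hfj ⟨gen .b, hbj⟩ := ⟨_, rfl⟩
        have hδk : δ ∈ τ.ker := hδ ▸ hDk .j hj fj hfj _
        have hUδ : fj (mk .j hj ⟨gen .b, hbj⟩) = U .b (by decide) * δ := by
          rw [hδ]; exact (mul_inv_cancel_left _ _).symm
        have hδ2 : δ * δ = 1 := hδ ▸ hDsq .j hj fj hfj .b hbj
        rw [hUδ, ← mul_assoc, (show Commute (S * U .b (by decide)) δ from hcen _ hδk _).mul_pow,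
          pow_two, pow_two, hδ2, mul_one] at h1
        exact h1
      have hα2 : α * α = 1 := by
        have := key .b (by decide) (by decide) (by decide) hbi
        rwa [hb2, one_mul] at this
      have hαone : α = 1 := by
        rwa [pow_succ, pow_two, hα2, one_mul] at hα3
      have := key .g hy (by decide) (by decide) hgi
      rw [hαone, mul_one, mul_one] at this
      rw [show lab .k .g = 2 by decide, pow_two]
      exact this
    have hyj : lab y .j = 2 ∨ y = .j := by
      cases y <;> first | exact absurd rfl hy | exact absurd rfl hl | exact absurd rfl hg |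
        exact Or.inr rfl | exact Or.inl (by decide)
    obtain ⟨δ, hδ⟩ : ∃ δ, δ = D .j hj fj hfj ⟨gen y, hgmem hy hyj⟩ := ⟨_, rfl⟩
    have hδk : δ ∈ τ.ker := hδ ▸ hDk .j hj fj hfj _
    have hδ2 : δ * δ = 1 := hδ ▸ hDsq .j hj fj hfj y _
    have hUδ : fj (mk .j hj ⟨gen y, hgmem hy hyj⟩) = U y hy * δ := by
      rw [hδ]; exact (mul_inv_cancel_left _ _).symm
    have h1 : (S * fj (mk .j hj ⟨gen y, hgmem hy hyj⟩)) ^ lab .k y = 1 := by
      rw [← map_mul, ← map_pow, ← map_one fj]
      exact congrArg fj (Subtype.ext (hrelG (t := .j) (by decide) hyl _ rfl))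
    have hδm : δ ^ lab .k y = 1 := by
      by_cases hya : y = .a
      · subst hya
        rw [hδ, hDa, one_pow]
      · rw [show lab .k y = 2 by
          cases y <;> first | exact absurd rfl hy | exact absurd rfl hl | exact absurd rfl hya | decide,
          pow_two, hδ2]
    rwa [hUδ, ← mul_assoc, (show Commute (S * U y hy) δ from hcen _ hδk _).mul_pow, hδm, mul_one] at h1
  -- the lifts
  let odd : H → Bool := fun h => !decide (sign (h : G) = 1)
  let e : H →* Tw Γ :=
    { toFun := fun h => ⟨pH h, pH h, odd h⟩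
      map_one' := by ext <;> simp [odd]
      map_mul' := fun a b => by
        have ho : odd (a * b) = xor (odd a) (odd b) := by
          show (!decide (sign ((a * b : H) : G) = 1)) = _
          rw [Subgroup.coe_mul, map_mul]
          simp only [odd]
          generalize sign (a : G) = u
          generalize sign (b : G) = v
          revert u v
          decide
        ext <;> simp [Tw.mul_def, ho] }
  have he_gen : ∀ x hx, e ⟨gen x, gen_mem hx⟩ = ⟨U x hx, U x hx, true⟩ := fun x hx => by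
    show (⟨_, _, odd _⟩ : Tw Γ) = _
    rw [show odd ⟨gen x, gen_mem hx⟩ = true by simp [odd, sign_gen]]
  let X : Gen → Tw Γ := fun x => if hx : x = .k then ⟨S, S⁻¹, true⟩ else e ⟨gen x, gen_mem hx⟩
  have hXk : X .k = ⟨S, S⁻¹, true⟩ := dif_pos rfl
  have hXH : ∀ x (hx : x ≠ Gen.k), X x = e ⟨gen x, gen_mem hx⟩ := fun x hx => dif_neg hx
  have hsq : ∀ x, X x * X x = 1 := fun x => by
    by_cases hx : x = .k
    · subst hx
      rw [hXk]
      ext <;> simp [Tw.mul_def]
    · rw [hXH x hx, ← map_mul, ← map_one e]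
      exact congrArg e (Subtype.ext (gen_sq x))
  have hk : ∀ y, y ≠ .k → (X .k * X y) ^ lab .k y = 1 := by
    intro y hy
    rw [hXk, hXH y hy, he_gen y hy, show (⟨S, S⁻¹, true⟩ : Tw Γ) * ⟨U y hy, U y hy, true⟩ =
      Tw.pair (S * U y hy) (S⁻¹ * U y hy) from rfl, Tw.pair_pow, hSU y hy]
    have h2 : S⁻¹ * U y hy = U y hy * (S * U y hy)⁻¹ * (U y hy)⁻¹ := by
      have hUi : (U y hy)⁻¹ = U y hy := inv_eq_of_mul_eq_one_right (hU2 y hy)
      rw [mul_inv_rev, hUi, ← mul_assoc (U y hy) (U y hy), hU2 y hy, one_mul]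
    rw [h2, conj_pow, inv_pow, hSU y hy, inv_one, mul_one, mul_inv_cancel, Tw.pair_one]
  have hpair : ∀ x y, (X x * X y) ^ lab x y = 1 := by
    intro x y
    by_cases hx : x = .k
    · subst hx
      by_cases hy : y = .k
      · subst hy
        rw [hsq, one_pow]
      · exact hk y hy
    · by_cases hy : y = .k
      · subst hy
        have h := hk x hx
        rw [show X x * X .k = (X .k)⁻¹ * (X .k * X x) * (X .k)⁻¹⁻¹ by group, conj_pow,
          show lab x .k = lab .k x from CosetCert.coxLabel_comm edges x .k, h, mul_one, mul_inv_cancel]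
      · rw [hXH x hx, hXH y hy, ← map_mul, ← map_pow, ← map_one e]
        exact congrArg e (Subtype.ext (gen_rel x y))
  refine ⟨e, X, hXH, fun x => ?_, hsq, fun r hr' hne => ?_, fun x => ?_, fun h => ?_⟩
  · by_cases hx : x = .k
    · subst hx; rw [hXk]
    · rw [hXH x hx, he_gen x hx]
  · rcases hr' with ⟨x, -, y, -, rfl⟩ | hext
    · rw [map_pow, map_mul, FreeGroup.lift_apply_of, FreeGroup.lift_apply_of]
      exact hpair x y
    · simp only [Cfsg.Spor.Fi24.extra, List.mem_cons, List.not_mem_nil, or_false,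
        Set.mem_ofPred_eq] at hext
      rcases hext with rfl | rfl
      · simp only [map_mul, map_inv, map_pow, FreeGroup.lift_apply_of]
        rw [hXH .l (by decide), hXH .a (by decide), hXH .b (by decide), hXH .c (by decide),
          hXH .d (by decide), hXH .e (by decide), hXH .f (by decide), hXH .h (by decide)]
        simp only [← map_mul, ← map_pow, ← map_inv]
        rw [← map_one e]
        refine congrArg e (Subtype.ext ?_)
        simp only [Subgroup.coe_mul, Subgroup.coe_inv, Subgroup.coe_pow, Subgroup.coe_one]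
        rw [mul_inv_eq_one]
        exact L_eq
      · exact absurd rfl hne
  · by_cases hx : x = .k
    · subst hx
      rw [hXk]
      show τ S * L = gen .k ∧ τ S⁻¹ = L * τ S * L
      rw [map_inv, hfj]
      refine ⟨?_, ?_⟩
      · show gen .k * L * L = gen .k
        rw [mul_assoc, gen_sq, mul_one]
      · show (gen .k * L)⁻¹ = L * (gen .k * L) * L
        rw [mul_inv_rev, gen_inv, gen_inv, mul_assoc L, mul_assoc (gen .k), gen_sq, mul_one]
    · rw [hXH x hx, he_gen x hx]
      show τ (U x hx) * L = gen x ∧ τ (U x hx) = L * τ (U x hx) * L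
      rw [hpH, fixG_gen]
      refine ⟨by rw [mul_assoc, gen_sq, mul_one], ?_⟩
      show gen x * L = L * (gen x * L) * L
      rw [mul_assoc L, mul_assoc (gen x), gen_sq, mul_one]
      exact hL ⟨gen x, gen_mem hx⟩
  · refine ⟨?_, rfl⟩
    show τ (pH h) * (bif odd h then L else 1) = h
    rw [hpH]
    by_cases hs : sign (h : G) = 1
    · simp [odd, fixG, hs]
    · simp [odd, fixG, hs, mul_assoc, gen_sq]

end Cfsg.Agent.Fi24Mult
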