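import Cfsg.Agent.Fi24.Simple
import Cfsg.Agent.Fi24Mult.Cov.CheckPairs
import Cfsg.Agent.Fi24Mult.Cov.CheckSpider
import Cfsg.Agent.Fi24Mult.Cov.CheckTail

/-!
Twelve involutions on three sheets over the 306936 points: they satisfy every relation of Fi24
except the spider's, whose word turns all sheets by the same amount.
-/

set_option autoImplicit false
set_option maxRecDepth 100000

namespace Cfsg.Agent.Fi24Mult.Cov

open Cfsg.Agent.CosetCert
open Cfsg.Spor.Fi24 (Gen)

/-- The points. -/
abbrev Pt : Type := Fin 306936 × ZMod 3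

/-- The table's step. -/
noncomputable def step (x : Nat) (c : Fin 306936) : Fin 306936 := Fi24Index.valid.perm x c

theorem step_val {x : Nat} (hx : x < 12) (c : Fin 306936) :
    (step x c : Nat) = Fi24Index.data.T c x :=
  Fi24Index.valid.perm_apply hx c

theorem step_step {x : Nat} (hx : x < 12) (c : Fin 306936) : step x (step x c) = c := by
  apply Fin.ext
  rw [step_val hx, step_val hx]
  exact (Fi24Index.valid.edge c.2 hx).2

/-- The step along a letter. -/
noncomputable def act (x : Nat) (z : Pt) : Pt :=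
  if x < 12 then (step x z.1, ((V z.1 x : Nat) : ZMod 3) - z.2) else z

/-- Turning the sheets. -/
def sh (d : ZMod 3) (z : Pt) : Pt := (z.1, z.2 + d)

theorem act_fst {x : Nat} (hx : x < 12) (z : Pt) :
    ((act x z).1 : Nat) = Fi24Index.data.T z.1 x := by
  rw [act, if_pos hx]
  exact step_val hx _

theorem act_snd {x : Nat} (hx : x < 12) (z : Pt) :
    (act x z).2 = ((V z.1 x : Nat) : ZMod 3) - z.2 := by
  rw [act, if_pos hx]

theorem app_fst : ∀ {w : List Nat}, (∀ x ∈ w, x < 12) → ∀ z : Pt,
    ((app act w z).1 : Nat) = Fi24Index.data.fwd w z.1 := by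
  intro w
  induction w with
  | nil => intro _ z; rfl
  | cons x t ih =>
    intro hw z
    rw [app_cons, ih (fun y hy => hw y (List.mem_cons_of_mem _ hy)), Data.fwd_cons,
      act_fst (hw x (List.mem_cons_self ..))]

theorem app_append (u v : List Nat) (z : Pt) : app act (u ++ v) z = app act v (app act u z) :=
  List.foldl_append ..

theorem app_sh : ∀ {w : List Nat}, (∀ x ∈ w, x < 12) → ∀ (d : ZMod 3) (z : Pt),
    app act w (sh d z) = sh ((-1) ^ w.length * d) (app act w z) := by
  intro w
  induction w with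
  | nil => intro _ d z; simp
  | cons x t ih =>
    intro hw d z
    have h : act x (sh d z) = sh (-d) (act x z) := by
      simp only [act, if_pos (hw x (List.mem_cons_self ..)), sh]
      exact Prod.ext rfl (by simp only; ring)
    rw [app_cons, h, ih (fun y hy => hw y (List.mem_cons_of_mem _ hy)), app_cons, List.length_cons,
      pow_succ]
    congr 1
    ring

theorem cast_vnext {v e : Nat} (he : e < 3) : ((vnext v e : Nat) : ZMod 3) = (v : ZMod 3) - e := by
  show (((v + 3 - e) % 3 : ℕ) : ZMod 3) = _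
  rw [ZMod.natCast_mod, Nat.cast_sub (by omega), Nat.cast_add, ZMod.natCast_self, add_zero]

theorem vnext_lt (v e : Nat) : vnext v e < 3 := Nat.mod_lt _ (by norm_num)

theorem vrun_spec : ∀ {w : List Nat}, (∀ x ∈ w, x < 12) → ∀ (c : Fin 306936) {e : Nat}, e < 3 →
    ∃ (c' : Fin 306936) (e' : Nat), e' < 3 ∧ vrun Fi24Index.data V w c e = c' * 4 + e' ∧
      app act w (c, (e : ZMod 3)) = (c', (e' : ZMod 3)) := by
  intro w
  induction w with
  | nil => intro _ c e he; exact ⟨c, e, he, rfl, rfl⟩
  | cons x t ih =>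
    intro hw c e he
    have hx := hw x (List.mem_cons_self ..)
    obtain ⟨c₁, hc₁⟩ : ∃ d, d = (act x (c, (e : ZMod 3))).1 := ⟨_, rfl⟩
    obtain ⟨c', e', he', hr, ha⟩ := ih (fun y hy => hw y (List.mem_cons_of_mem _ hy)) c₁
      (vnext_lt (V c x) e)
    refine ⟨c', e', he', ?_, ?_⟩
    · rw [← hr, hc₁, act_fst hx]
      show force (vnext (V c x) e) (fun e' => force (Fi24Index.data.T c x) fun d =>
        vrun Fi24Index.data V t d e') = _
      rw [force_eq, force_eq]
    · rw [app_cons, ← ha, cast_vnext he, hc₁]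
      exact congrArg _ (Prod.ext rfl (act_snd hx _))

theorem fwd_relator {w : List Nat} (hw : w ∈ Fi24Index.data.W.take 93) :
    ∀ c, c < 306936 → Fi24Index.data.fwd w c = c :=
  Fi24Index.valid.fwd_relator hw

/-- What is checked of the list of words on two letters. -/
theorem words_ok :
    (∀ w ∈ pairWords, (∀ x ∈ w, x < 12) ∧ w ∈ Fi24Index.data.W.take 93 ∧
      w = (List.replicate (w.length / 2) [w.headD 0, w.tail.headD 0]).flatten) ∧
    (∀ x, x < 12 → [x, x] ∈ pairWords) := by
  constructor <;> decide +kernel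

theorem VR_of_V {c x : Nat} (h : V c x ≠ 0) : VR c ≠ 0 := by
  intro h0
  apply h
  unfold V
  rw [h0]
  show (0 >>> (2 * x)) &&& 3 = 0
  simp

theorem pairs_spec {w : List Nat} (hw : w ∈ pairWords) {c : Fin 306936}
    (h : V c (w.headD 0) ≠ 0 ∨ V c (w.tail.headD 0) ≠ 0) (e : ZMod 3) :
    app act w (c, e) = (c, e) := by
  have hchk := pairsTest_ok c c.2
  unfold pairsTest checkPairWords at hchk
  have hVR : VR c ≠ 0 := h.elim VR_of_V VR_of_V
  rw [show Nat.beq (VR c) 0 = false from
    Bool.eq_false_iff.2 fun hb => hVR (Nat.eq_of_beq_eq_true hb)] at hchk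
  have key : ∀ L : List (List Nat), (List.rec true (fun w _ ih => gate
      (Bool.rec (motive := fun _ => Bool)
        (Nat.beq (vrun Fi24Index.data V w c 0) (Nat.mul c 4)) true
        (gate (Nat.beq (V c (w.headD 0)) 0) (Nat.beq (V c (w.tail.headD 0)) 0))) ih) L : Bool) = true →
      w ∈ L → vrun Fi24Index.data V w c 0 = c * 4 := by
    intro L
    induction L with
    | nil => intro _ hm; exact absurd hm List.not_mem_nil
    | cons u L ih =>
      intro hL hm
      have hL' : gate _ _ = true := hL
      rw [gate_eq, Bool.and_eq_true] at hL'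
      obtain ⟨h1, h2⟩ := hL'
      rw [gate_eq] at h1
      rcases List.mem_cons.1 hm with rfl | hm
      · have hg : (Nat.beq (V c (w.headD 0)) 0 && Nat.beq (V c (w.tail.headD 0)) 0) = false := by
          apply Bool.eq_false_iff.2
          intro hb
          rw [Bool.and_eq_true] at hb
          exact h.elim (fun h => h (Nat.eq_of_beq_eq_true hb.1))
            (fun h => h (Nat.eq_of_beq_eq_true hb.2))
        rw [hg] at h1
        exact Nat.eq_of_beq_eq_true h1
      · exact ih h2 hm
  have hv := key pairWords hchk hw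
  obtain ⟨hlt, hW, hlen⟩ := words_ok.1 w hw
  obtain ⟨c', e', he', hr, ha⟩ := vrun_spec hlt c (e := 0) (by norm_num)
  rw [hv] at hr
  obtain rfl : c' = c := Fin.ext (by omega)
  obtain rfl : e' = 0 := by omega
  rw [Nat.cast_zero] at ha
  have heven : ((-1 : ZMod 3)) ^ w.length = 1 := by
    rw [hlen]
    simp [List.length_flatten, pow_mul']
  have := app_sh hlt e ((c', 0) : Pt)
  rw [ha, heven, one_mul] at this
  simpa [sh] using this

theorem V_symm (c : Fin 306936) {x : Nat} (hx : x < 12) :
    ((V (step x c) x : Nat) : ZMod 3) = (V c x : Nat) := by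
  have back : step x (step x c) = c := step_step hx c
  have key : ∀ d : Fin 306936, V d x ≠ 0 →
      ((V (step x d) x : Nat) : ZMod 3) = (V d x : Nat) := by
    intro d hd
    have h := congrArg Prod.snd (pairs_spec (words_ok.2 x hx) (c := d) (Or.inl hd) 0)
    simp only [app_cons, app_nil, act_snd hx, act, if_pos hx, sub_zero] at h
    exact sub_eq_zero.1 h
  by_cases h1 : V c x = 0
  · by_cases h2 : V (step x c) x = 0
    · rw [h1, h2]
    · have h := key _ h2
      rw [back] at h
      exact h.symm
  · exact key c h1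

theorem act_invol (x : Nat) (z : Pt) : act x (act x z) = z := by
  by_cases hx : x < 12
  · apply Prod.ext
    · simp only [act, if_pos hx]
      exact step_step hx z.1
    · rw [act_snd hx, act_snd hx, show (act x z).1 = step x z.1 by
        rw [act, if_pos hx], V_symm z.1 hx]
      ring
  · simp [act, hx]

theorem app_reverse (w : List Nat) (z : Pt) : app act w.reverse (app act w z) = z := by
  induction w generalizing z with
  | nil => rfl
  | cons x t ih =>
    rw [List.reverse_cons, app_cons, app_append, ih, app_cons, app_nil, act_invol]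

/-- `x y` repeated. -/
abbrev pw (x y m : Nat) : List Nat := (List.replicate m [x, y]).flatten

theorem cons_pw (x y : Nat) : ∀ m, x :: pw y x m = pw x y m ++ [x] := by
  intro m
  induction m with
  | zero => rfl
  | succ m ih =>
    simp only [pw, List.replicate_succ, List.flatten_cons] at ih ⊢
    exact congrArg (fun l => x :: y :: l) ih

theorem reverse_pw (x y : Nat) (m : Nat) : (pw x y m).reverse = pw y x m := by
  induction m with
  | zero => rfl
  | succ m ih =>
    rw [show pw x y (m + 1) = [x, y] ++ pw x y m from by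
        simp [pw, List.replicate_succ], List.reverse_append, ih,
      show pw y x (m + 1) = pw y x m ++ [y, x] from by simp [pw, List.replicate_succ']]
    rfl

theorem pair_word {w : List Nat} (hw : w ∈ pairWords) (z : Pt) : app act w z = z := by
  obtain ⟨hlt, hW, hlen⟩ := words_ok.1 w hw
  obtain ⟨x, hxd⟩ : ∃ x, x = w.headD 0 := ⟨_, rfl⟩
  obtain ⟨y, hyd⟩ : ∃ y, y = w.tail.headD 0 := ⟨_, rfl⟩
  obtain ⟨m, hm⟩ : ∃ m, m = w.length / 2 := ⟨_, rfl⟩
  rw [← hxd, ← hyd, ← hm] at hlen
  have hrev : ∀ v, app act (pw x y m) v = v → app act (pw y x m) v = v := fun v hv => by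
    rw [← reverse_pw]
    conv_lhs => arg 3; rw [← hv]
    exact app_reverse _ _
  have hback : ∀ v, app act (pw y x m) v = v → app act (pw x y m) v = v := fun v hv => by
    rw [← reverse_pw y x]
    conv_lhs => arg 3; rw [← hv]
    exact app_reverse _ _
  have hinvx : ∀ v, app act (pw x y m) v = v → app act (pw x y m) (act x v) = act x v := by
    intro v hv
    apply hback
    rw [show app act (pw y x m) (act x v) = app act (x :: pw y x m) v from rfl, cons_pw, app_append,
      hv]
    rfl
  have hinvy : ∀ v, app act (pw x y m) v = v → app act (pw x y m) (act y v) = act y v := by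
    intro v hv
    rw [show app act (pw x y m) (act y v) = app act (y :: pw x y m) v from rfl, cons_pw, app_append,
      hrev v hv]
    rfl
  have hall : ∀ u : List Nat, (∀ a ∈ u, (a = x ∨ a = y) ∧ a < 12) → ∀ v : Pt,
      app act (pw x y m) v = v ∨ (app act u v).2 = (-1) ^ u.length * v.2 := by
    intro u
    induction u with
    | nil => intro _ v; exact Or.inr (by simp)
    | cons a t ih =>
      intro hu v
      obtain ⟨ha, ha12⟩ := hu a (List.mem_cons_self ..)
      by_cases hV : V v.1 x = 0 ∧ V v.1 y = 0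
      · rcases ih (fun b hb => hu b (List.mem_cons_of_mem _ hb)) (act a v) with h | h
        · left
          rw [← act_invol a v]
          rcases ha with rfl | rfl
          · exact hinvx _ h
          · exact hinvy _ h
        · right
          rw [app_cons, h, act_snd ha12, show V v.1 a = 0 by
            rcases ha with rfl | rfl; exacts [hV.1, hV.2], List.length_cons, pow_succ]
          simp
      · left
        rw [not_and_or, hxd, hyd] at hV
        have h := pairs_spec hw hV v.2
        conv at h => lhs; rw [hlen]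
        exact h
  rw [hlen]
  have hmem : ∀ a ∈ pw x y m, (a = x ∨ a = y) ∧ a < 12 := by
    intro a ha
    refine ⟨?_, hlt a (hlen ▸ ha)⟩
    obtain ⟨l, hl, hal⟩ := List.mem_flatten.1 ha
    rw [(List.mem_replicate.1 hl).2] at hal
    simpa using hal
  rcases hall (pw x y m) hmem z with h | h
  · exact h
  · apply Prod.ext
    · apply Fin.ext
      rw [app_fst (fun a ha => hlt a (hlen ▸ ha))]
      exact fwd_relator (hlen ▸ hW) _ z.1.2
    · rw [h]
      simp [List.length_flatten, pow_mul']

theorem power_spec {w pre : List Nat} {st : Nat → Nat} {odd : Bool} {k d : Nat}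
    (hw : ∀ x ∈ w, x < 12) (hpre : ∀ x ∈ pre, x < 12)
    (hodd : (-1 : ZMod 3) ^ w.length = bif odd then -1 else 1)
    (heven : (-1 : ZMod 3) ^ (pre ++ (List.replicate k w).flatten).length = 1) (hd : d < 3)
    (h : ∀ c, c < 306936 → checkVPower Fi24Index.data V w pre st odd k d c = true) (z : Pt) :
    app act (pre ++ (List.replicate k w).flatten) z = sh d z := by
  have hspec : ∀ c : Fin 306936, vrun Fi24Index.data V w c 0 = st c ∧
      viter st odd k (vrun Fi24Index.data V pre c 0) = c * 4 + d := by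
    intro c
    have h1 := h c c.2
    simp only [checkVPower, force_eq, gate_eq, Bool.and_eq_true] at h1
    exact ⟨(Nat.eq_of_beq_eq_true h1.1).symm, Nat.eq_of_beq_eq_true h1.2⟩
  have hit : ∀ (j : Nat) (c : Fin 306936) (e : Nat), e < 3 →
      ∃ (c' : Fin 306936) (e' : Nat), e' < 3 ∧ viter st odd j (c * 4 + e) = c' * 4 + e' ∧
        app act (List.replicate j w).flatten (c, (e : ZMod 3)) = (c', (e' : ZMod 3)) := by
    intro j
    induction j with
    | zero => intro c e he; exact ⟨c, e, he, rfl, rfl⟩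
    | succ j ih =>
      intro c e he
      obtain ⟨c₁, e₁, he₁, hr₁, ha₁⟩ := vrun_spec hw c (e := 0) (by norm_num)
      rw [(hspec c).1] at hr₁
      obtain ⟨e₂, he₂d⟩ : ∃ e₂, e₂ = Bool.rec (motive := fun _ => Nat) ((e₁ + e) % 3) (vnext e₁ e) odd :=
        ⟨_, rfl⟩
      have he₂ : e₂ < 3 := by
        rw [he₂d]; cases odd
        · exact Nat.mod_lt _ (by norm_num)
        · exact vnext_lt _ _
      obtain ⟨c', e', he', hr, ha⟩ := ih c₁ e₂ he₂
      refine ⟨c', e', he', ?_, ?_⟩
      · rw [← hr, he₂d]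
        show force (st (Nat.div (c * 4 + e) 4)) (fun t => force (Bool.rec (motive := fun _ => Nat)
            (Nat.mod (Nat.add (Nat.mod t 4) (Nat.mod (c * 4 + e) 4)) 3)
            (vnext (Nat.mod t 4) (Nat.mod (c * 4 + e) 4)) odd) fun e =>
            force (Nat.add (Nat.mul (Nat.div t 4) 4) e) (viter st odd j)) = _
        rw [show Nat.div (c * 4 + e) 4 = (c : Nat) by show (c * 4 + e) / 4 = _; omega, hr₁]
        simp only [force_eq]
        have a1 : Nat.mod (c₁ * 4 + e₁) 4 = e₁ := by show (c₁ * 4 + e₁) % 4 = _; omega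
        have a2 : Nat.mod (c * 4 + e) 4 = e := by show (c * 4 + e) % 4 = _; omega
        have a3 : Nat.div (c₁ * 4 + e₁) 4 = c₁ := by show (c₁ * 4 + e₁) / 4 = _; omega
        rw [a1, a2, a3]
        rfl
      · rw [List.replicate_succ, List.flatten_cons, app_append, ← ha]
        congr 1
        have h2 := app_sh hw (e : ZMod 3) ((c, ((0 : Nat) : ZMod 3)) : Pt)
        rw [ha₁, hodd] at h2
        simp only [sh, Nat.cast_zero, zero_add] at h2
        rw [h2]
        refine Prod.ext rfl ?_
        show _ = (e₂ : ZMod 3)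
        rw [he₂d]
        cases odd
        · rw [cond_false, one_mul]
          exact ((ZMod.natCast_mod (e₁ + e) 3).trans (Nat.cast_add _ _)).symm
        · rw [cond_true, neg_one_mul, ← sub_eq_add_neg]
          exact (cast_vnext he).symm
  obtain ⟨c, e⟩ := z
  obtain ⟨c₁, e₁, he₁, hr₁, ha₁⟩ := vrun_spec hpre c (e := 0) (by norm_num)
  obtain ⟨c', e', he', hr, ha⟩ := hit k c₁ e₁ he₁
  have h2 := (hspec c).2
  rw [hr₁, hr] at h2
  obtain rfl : c' = c := Fin.ext (by omega)
  obtain rfl : e' = d := by omega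
  have hlt : ∀ x ∈ pre ++ (List.replicate k w).flatten, x < 12 := by
    intro x hx
    rcases List.mem_append.1 hx with h | h
    · exact hpre x h
    · obtain ⟨l, hl, hxl⟩ := List.mem_flatten.1 h
      rw [(List.mem_replicate.1 hl).2] at hxl
      exact hw x hxl
  have h3 := app_sh hlt e ((c', ((0 : Nat) : ZMod 3)) : Pt)
  have hz : app act (pre ++ (List.replicate k w).flatten) (c', ((0 : Nat) : ZMod 3)) =
      (c', (e' : ZMod 3)) := by rw [app_append, ha₁, ha]
  rw [heven, hz, one_mul] at h3
  simp only [sh, Nat.cast_zero, zero_add] at h3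
  rw [h3]
  exact Prod.ext rfl (add_comm _ _)

theorem spider_word (z : Pt) :
    app act (List.replicate 17 Fi24Index.spider).flatten z = sh 2 z := by
  have h := power_spec (w := Fi24Index.spider) (pre := []) (st := get24 spiderSteps) (odd := false)
    (k := 17) (d := 2) (by decide) (by simp) (by decide) (by decide) (by norm_num) spiderTest_ok z
  simpa using h

theorem tail_word (z : Pt) :
    app act (11 :: (List.replicate 9 Fi24Index.coxeter).flatten) z = z := by
  have h := power_spec (w := Fi24Index.coxeter) (pre := [11]) (st := get24 coxeterSteps)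
    (odd := true) (k := 9) (d := 0) (by decide) (by decide) (by decide) (by decide) (by norm_num)
    tailTest_ok z
  simpa [sh] using h

/-- The involution of a generator. -/
noncomputable def P (b : Gen) : Equiv.Perm Pt :=
  Function.Involutive.toPerm (act (Fi24Index.enc b)) (act_invol _)

theorem P_apply (b : Gen) (z : Pt) : P b z = act (Fi24Index.enc b) z := rfl

theorem P_sq (b : Gen) : P b * P b = 1 := Equiv.ext fun z => act_invol _ z

theorem P_inv (b : Gen) : (P b)⁻¹ = P b := inv_eq_of_mul_eq_one_right (P_sq b)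

/-- The turn of all sheets by one. -/
def S : Equiv.Perm Pt := (Equiv.refl _).prodCongr (Equiv.addRight 1)

theorem S_apply (z : Pt) : S z = sh 1 z := rfl

theorem S_three : S ^ 3 = 1 := by
  refine Equiv.ext fun z => Prod.ext rfl ?_
  show z.2 + 1 + 1 + 1 = z.2
  rw [add_assoc, add_assoc, show (1 : ZMod 3) + (1 + 1) = 0 by decide, add_zero]

theorem S_ne_one : S ≠ 1 := fun h => by
  have := congrArg (fun f : Equiv.Perm Pt => (f ((⟨0, by norm_num⟩ : Fin 306936), 0)).2) h
  revert this
  decide

theorem P_S (b : Gen) : P b * S * (P b)⁻¹ = S⁻¹ := by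
  rw [P_inv, eq_inv_iff_mul_eq_one]
  refine Equiv.ext fun z => ?_
  have hlt : Fi24Index.enc b < 12 := (Fi24Index.spells.enc_lt b).1
  show act _ (sh 1 (act _ (sh 1 z))) = z
  have h := app_sh (w := [Fi24Index.enc b]) (by simpa using hlt) 1 z
  simp only [app_cons, app_nil, List.length_singleton, pow_one] at h
  rw [h]
  have e : sh 1 (sh (-1 * 1) (act (Fi24Index.enc b) z)) = act (Fi24Index.enc b) z :=
    Prod.ext rfl (by show _ + -1 * 1 + 1 = _; ring)
  rw [e, act_invol]

/-- The homomorphism of words. -/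
noncomputable def Ψ : FreeGroup Gen →* Equiv.Perm Pt := FreeGroup.lift P

theorem app_code (l : List (Gen × Bool)) (z : Pt) :
    app act (l.map (Data.code (fun x => x) Fi24Index.enc)) z = (Ψ (FreeGroup.mk l))⁻¹ z := by
  induction l generalizing z with
  | nil => simp [show (FreeGroup.mk ([] : List (Gen × Bool))) = 1 from rfl]
  | cons a t ih =>
    have hcd : Data.code (fun x => x) Fi24Index.enc a = Fi24Index.enc a.1 := by
      obtain ⟨b, _ | _⟩ := a <;> rfl
    have h1 : (Ψ (FreeGroup.mk [a]))⁻¹ = P a.1 := by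
      obtain ⟨b, _ | _⟩ := a
      · simp [Ψ, FreeGroup.lift_mk]
      · simpa [Ψ, FreeGroup.lift_mk] using P_inv b
    rw [List.map_cons, app_cons, ih, show FreeGroup.mk (a :: t) = FreeGroup.mk [a] * FreeGroup.mk t
      by rw [FreeGroup.mul_mk]; rfl, map_mul, mul_inv_rev, Equiv.Perm.mul_apply, h1, hcd, P_apply]

theorem pair_ne : ∀ x y : Gen, Fi24Index.enc x ≤ Fi24Index.enc y →
    (powPair x y (Cfsg.Spor.coxLabel Cfsg.Spor.Fi24.edges x y)).map
      (Data.code (fun x => x) Fi24Index.enc) ∈ pairWords := by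
  intro x y
  cases x <;> cases y <;> decide

theorem P_pair (x y : Gen) :
    (P x * P y) ^ Cfsg.Spor.coxLabel Cfsg.Spor.Fi24.edges x y = 1 := by
  have key : ∀ a b : Gen, Fi24Index.enc a ≤ Fi24Index.enc b →
      (P a * P b) ^ Cfsg.Spor.coxLabel Cfsg.Spor.Fi24.edges a b = 1 := by
    intro a b h
    have e : Ψ (FreeGroup.mk (powPair a b (Cfsg.Spor.coxLabel Cfsg.Spor.Fi24.edges a b))) = 1 := by
      rw [← inv_eq_one]
      refine Equiv.ext fun z => ?_
      rw [← app_code]
      exact pair_word (pair_ne a b h) z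
    rwa [mk_powPair, map_pow, map_mul, Ψ, FreeGroup.lift_apply_of, FreeGroup.lift_apply_of] at e
  rcases Nat.le_total (Fi24Index.enc x) (Fi24Index.enc y) with h | h
  · exact key x y h
  · rw [show P x * P y = (P y * P x)⁻¹ by rw [mul_inv_rev, P_inv, P_inv], inv_pow,
      coxLabel_comm, key y x h, inv_one]

theorem Ψ_extra : ∀ l ∈ Cfsg.Spor.Fi24.extra.map FreeGroup.toWord,
    Ψ (FreeGroup.mk l) ∈ Subgroup.zpowers S := by
  have hcodes : (Cfsg.Spor.Fi24.extra.map FreeGroup.toWord).map
      (List.map (Data.code (fun x => x) Fi24Index.enc)) =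
      [11 :: (List.replicate 9 Fi24Index.coxeter).flatten,
        (List.replicate 17 Fi24Index.spider).flatten] := by decide +kernel
  intro l hl
  have hm := List.mem_map_of_mem (f := List.map (Data.code (fun x => x) Fi24Index.enc)) hl
  rw [hcodes, List.mem_cons, List.mem_singleton] at hm
  rcases hm with hm | hm
  · rw [show Ψ (FreeGroup.mk l) = 1 by
      rw [← inv_eq_one]
      refine Equiv.ext fun z => ?_
      rw [← app_code, hm]
      exact tail_word z]
    exact one_mem _
  · rw [show Ψ (FreeGroup.mk l) = (S * S)⁻¹ by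
      rw [← inv_inv (Ψ _)]
      refine congrArg _ (Equiv.ext fun z => ?_)
      rw [← app_code, hm, spider_word]
      exact Prod.ext rfl (by show z.2 + 2 = z.2 + 1 + 1; rw [add_assoc]; rfl)]
    exact inv_mem (mul_mem (Subgroup.mem_zpowers _) (Subgroup.mem_zpowers _))

theorem Ψ_spider :
    Ψ ((Cfsg.Spor.Fi24.d * Cfsg.Spor.Fi24.c * Cfsg.Spor.Fi24.b * Cfsg.Spor.Fi24.a *
      Cfsg.Spor.Fi24.k * Cfsg.Spor.Fi24.l * Cfsg.Spor.Fi24.d * Cfsg.Spor.Fi24.e *
      Cfsg.Spor.Fi24.f * Cfsg.Spor.Fi24.g * Cfsg.Spor.Fi24.j * Cfsg.Spor.Fi24.d *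
      Cfsg.Spor.Fi24.h * Cfsg.Spor.Fi24.i) ^ 17) = S := by
  obtain ⟨r, hr⟩ : ∃ r, r = (Cfsg.Spor.Fi24.d * Cfsg.Spor.Fi24.c * Cfsg.Spor.Fi24.b *
      Cfsg.Spor.Fi24.a * Cfsg.Spor.Fi24.k * Cfsg.Spor.Fi24.l * Cfsg.Spor.Fi24.d *
      Cfsg.Spor.Fi24.e * Cfsg.Spor.Fi24.f * Cfsg.Spor.Fi24.g * Cfsg.Spor.Fi24.j *
      Cfsg.Spor.Fi24.d * Cfsg.Spor.Fi24.h * Cfsg.Spor.Fi24.i) ^ 17 := ⟨_, rfl⟩
  have hc : r.toWord.map (Data.code (fun x => x) Fi24Index.enc) =
      (List.replicate 17 Fi24Index.spider).flatten := by subst hr; decide +kernel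
  rw [← hr, ← inv_inj]
  refine Equiv.ext fun z => ?_
  have h := app_code r.toWord z
  rw [FreeGroup.mk_toWord, hc, spider_word] at h
  rw [← h]
  show sh 2 z = S⁻¹ z
  rw [Equiv.Perm.eq_inv_iff_eq]
  exact Prod.ext rfl (by show z.2 + 2 + 1 = z.2; rw [add_assoc, show (2 : ZMod 3) + 1 = 0 by decide, add_zero])

end Cfsg.Agent.Fi24Mult.Cov
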