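import Cfsg.Agent.Fi24.Transp
import Cfsg.Agent.S2054

/-!
Over the part of a transposition centraliser inside Fi24', a central extension has a section.
-/

set_option autoImplicit false

namespace Cfsg.Agent.Fi24Mult

open Cfsg.Agent.Fi24
open Cfsg.Agent.CosetCert
open scoped commutatorElement

theorem commutator_fi23 : commutator Cfsg.Spor.Fi23 = ⊤ := by
  haveI := Fi23Order.order_and_simple.1
  rcases (inferInstance : (commutator Cfsg.Spor.Fi23).Normal).eq_bot_or_eq_top with h | h
  · exfalso
    have hc : ∀ x y : Cfsg.Spor.Fi23, x * y = y * x := fun x y => by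
      have := Subgroup.commutator_mem_commutator (Subgroup.mem_top x) (Subgroup.mem_top y)
      rw [← commutator_def, h, Subgroup.mem_bot] at this
      exact commutatorElement_eq_one_iff_mul_comm.1 this
    letI : CommGroup Cfsg.Spor.Fi23 :=
      { (inferInstance : Group Cfsg.Spor.Fi23) with mul_comm := hc }
    have hp := IsSimpleGroup.prime_card (α := Cfsg.Spor.Fi23)
    rw [Fi23Order.order_and_simple.2] at hp
    exact Nat.not_prime_mul (a := 2) (b := 2044735236646502400) (by norm_num) (by norm_num) hp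
  · exact h

variable {Γ : Type} [Group Γ] [Finite Γ] (τ : Γ →* G)

/-- An injective copy of Fi23 in the image lifts. -/
theorem exists_section (hc : τ.ker ≤ Subgroup.center Γ) (ι : Cfsg.Spor.Fi23 →* G)
    (hi : Function.Injective ι) (hrange : ι.range ≤ τ.range) :
    ∃ s : Cfsg.Spor.Fi23 →* Γ, ∀ x, τ (s x) = ι x := by
  let e := MonoidHom.ofInjective hi
  let P : Subgroup Γ := ι.range.comap τ
  let π : P →* Cfsg.Spor.Fi23 :=
    e.symm.toMonoidHom.comp ((τ.comp P.subtype).codRestrict ι.range fun x => x.2)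
  have hπ : ∀ x : P, ι (π x) = τ (x : Γ) := fun x => by
    show ι (e.symm _) = _
    rw [MonoidHom.apply_ofInjective_symm hi]
    rfl
  have hker : π.ker ≤ Subgroup.center P := fun x hx => by
    have h1 : (x : Γ) ∈ Subgroup.center Γ := hc (by
      rw [MonoidHom.mem_ker, ← hπ, MonoidHom.mem_ker.1 hx, map_one])
    exact Subgroup.mem_center_iff.2 fun y => Subtype.ext (Subgroup.mem_center_iff.1 h1 y)
  have hs : Function.Surjective π := fun y => by
    obtain ⟨g, hg⟩ := hrange ⟨y, rfl⟩
    exact ⟨⟨g, ⟨y, hg.symm⟩⟩, hi ((hπ _).trans hg)⟩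
  let σ : commutator P →* Cfsg.Spor.Fi23 := π.comp (commutator P).subtype
  have hmap : (commutator P).map π = ⊤ := by
    rw [commutator_def, Subgroup.map_commutator, Subgroup.map_top_of_surjective π hs,
      ← commutator_def, commutator_fi23]
  have hsσ : Function.Surjective σ := fun y => by
    obtain ⟨x, hx, he⟩ := (hmap ▸ Subgroup.mem_top y : y ∈ (commutator P).map π)
    exact ⟨⟨x, hx⟩, he⟩
  have hperf : commutator (commutator P) = ⊤ := by
    have key : ∀ a b : P, ∃ u v : commutator P, ((⁅u, v⁆ : commutator P) : P) = ⁅a, b⁆ := by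
      intro a b
      obtain ⟨u, hu⟩ := hsσ (π a)
      obtain ⟨v, hv⟩ := hsσ (π b)
      refine ⟨u, v, ?_⟩
      have hu' : (u : P)⁻¹ * a ∈ Subgroup.center P := hker (by
        rw [MonoidHom.mem_ker, map_mul, map_inv]
        exact inv_mul_eq_one.2 hu)
      have hv' : (v : P)⁻¹ * b ∈ Subgroup.center P := hker (by
        rw [MonoidHom.mem_ker, map_mul, map_inv]
        exact inv_mul_eq_one.2 hv)
      obtain ⟨c, hcdef⟩ : ∃ c, c = (u : P)⁻¹ * a := ⟨_, rfl⟩
      obtain ⟨d, hddef⟩ : ∃ d, d = (v : P)⁻¹ * b := ⟨_, rfl⟩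
      rw [← hcdef] at hu'
      rw [← hddef] at hv'
      have ha : a = u * c := by rw [hcdef, mul_inv_cancel_left]
      have hb : b = v * d := by rw [hddef, mul_inv_cancel_left]
      have hc1 := Subgroup.mem_center_iff.1 hu'
      have hd1 := Subgroup.mem_center_iff.1 hv'
      rw [ha, hb]
      simp only [commutatorElement_def, Subgroup.coe_mul, Subgroup.coe_inv, mul_inv_rev]
      symm
      calc (u : P) * c * ((v : P) * d) * (c⁻¹ * (u : P)⁻¹) * (d⁻¹ * (v : P)⁻¹)
          = u * (c * ((v : P) * d)) * c⁻¹ * (u : P)⁻¹ * d⁻¹ * (v : P)⁻¹ := by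
            simp only [mul_assoc]
        _ = u * v * d * (u : P)⁻¹ * d⁻¹ * (v : P)⁻¹ := by
            rw [← hc1 ((v : P) * d)]; simp only [mul_assoc, mul_inv_cancel_left]
        _ = u * v * (d * (u : P)⁻¹) * d⁻¹ * (v : P)⁻¹ := by simp only [mul_assoc]
        _ = (u : P) * v * (u : P)⁻¹ * (v : P)⁻¹ := by
            rw [← hd1 (u : P)⁻¹]; simp only [mul_assoc, mul_inv_cancel_left]
    have hmapc : (commutator (commutator P)).map (commutator P).subtype = commutator P := by
      refine le_antisymm (Subgroup.map_subtype_le _) ?_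
      refine (commutator_def P).le.trans (Subgroup.commutator_le.2 ?_)
      intro a _ b _
      obtain ⟨u, v, huv⟩ := key a b
      exact ⟨⁅u, v⁆, Subgroup.commutator_mem_commutator (Subgroup.mem_top _) (Subgroup.mem_top _),
        huv⟩
    rw [eq_top_iff]
    intro x _
    have : (x : P) ∈ (commutator (commutator P)).map (commutator P).subtype := by
      rw [hmapc]; exact x.2
    obtain ⟨y, hy, he⟩ := this
    exact Subtype.ext he ▸ hy
  have hst : Cfsg.IsStemExtension σ :=
    ⟨hsσ, fun x hx => Subgroup.mem_center_iff.2 fun y => Subtype.ext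
      (Subgroup.mem_center_iff.1 (hker (show (x : P) ∈ π.ker from hx)) y), by rw [hperf]; exact le_top⟩
  have hbij : Function.Bijective σ :=
    ⟨(MonoidHom.ker_eq_bot_iff σ).1 (Cfsg.Agent.S2054.ker_eq_bot _ σ hst), hsσ⟩
  let e' := MulEquiv.ofBijective σ hbij
  refine ⟨(P.subtype.comp (commutator P).subtype).comp e'.symm.toMonoidHom, fun y => ?_⟩
  show τ ((e'.symm y : P) : Γ) = ι y
  rw [← hπ]
  exact congrArg ι (e'.apply_symm_apply y)

/-- The even part of the centraliser of `t`. -/
noncomputable abbrev K (t : G) : Subgroup G := Subgroup.centralizer ({t} : Set G) ⊓ sign.ker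

theorem sign_L : sign L = Multiplicative.ofAdd 1 := sign_gen _

/-- Fi23 is the even part of the centraliser of `l`. -/
theorem exists_iso : Nonempty (Cfsg.Spor.Fi23 ≃* K L) := by
  have hK : ∀ g, g ∈ K L → g ∈ H := fun g hg => by rw [← centralizer_L]; exact hg.1
  let m : K L →* H ⧸ Z := (QuotientGroup.mk' Z).comp
    { toFun := fun g => ⟨g, hK g g.2⟩, map_one' := rfl, map_mul' := fun _ _ => rfl }
  have hinj : Function.Injective m := by
    rw [← MonoidHom.ker_eq_bot_iff, eq_bot_iff]
    intro g hg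
    rcases mem_Z ((QuotientGroup.eq_one_iff _).1 hg) with e | e
    · exact Subtype.ext (congrArg Subtype.val e :)
    · exfalso
      have h1 : sign (g : G) = 1 := g.2.2
      rw [show (g : G) = L from e, sign_L] at h1
      exact absurd h1 (by decide)
  have hsurj : Function.Surjective m := fun q => by
    obtain ⟨⟨h, hh⟩, rfl⟩ := QuotientGroup.mk_surjective q
    have hZ : (⟨L, L_mem⟩ : H) ∈ Z := Subgroup.mem_zpowers _
    have hmem : ∀ x, x ∈ H → sign x = 1 → x ∈ K L := fun x hx h1 =>
      ⟨by rw [centralizer_L]; exact hx, h1⟩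
    by_cases hs : sign h = 1
    · exact ⟨⟨h, hmem h hh hs⟩, rfl⟩
    · refine ⟨⟨h * L, hmem _ (mul_mem hh L_mem) ?_⟩, ?_⟩
      · rw [map_mul, sign_L]
        generalize sign h = v at hs
        revert hs v
        decide
      · refine QuotientGroup.eq.2 ?_
        have : (⟨h * L, mul_mem hh L_mem⟩ : H)⁻¹ * ⟨h, hh⟩ = (⟨L, L_mem⟩ : H)⁻¹ := by
          apply Subtype.ext
          simp
        exact this ▸ inv_mem hZ
  exact ⟨(MulEquiv.ofBijective θ ⟨kernel_H.1, θ_surjective⟩).trans
    (MulEquiv.ofBijective m ⟨hinj, hsurj⟩).symm⟩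

/-- A section over the even part of the centraliser of a transposition. -/
theorem exists_sect (hc : τ.ker ≤ Subgroup.center Γ) (hr : sign.ker ≤ τ.range) {t : G}
    (ht : IsConj L t) : ∃ f : K t →* Γ, ∀ x, τ (f x) = x := by
  obtain ⟨g, rfl⟩ := isConj_iff.1 ht
  have hKg : (K L).map (MulAut.conj g).toMonoidHom = K (g * L * g⁻¹) := by
    ext x
    simp only [Subgroup.mem_map_equiv, Subgroup.mem_inf, Subgroup.mem_centralizer_singleton_iff,
      MonoidHom.mem_ker, MulAut.conj_symm_apply]
    refine and_congr ?_ ?_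
    · constructor
      · intro h
        have := congrArg (fun y => g * y * g⁻¹) h
        simpa [mul_assoc] using this
      · intro h
        have := congrArg (fun y => g⁻¹ * y * g) h
        simpa [mul_assoc] using this
    · rw [map_mul, map_mul, map_inv, mul_comm (sign g)⁻¹, mul_assoc, inv_mul_cancel, mul_one]
  obtain ⟨e⟩ := exists_iso
  let e' : Cfsg.Spor.Fi23 ≃* K (g * L * g⁻¹) :=
    (e.trans ((MulAut.conj g).subgroupMap (K L))).trans (MulEquiv.subgroupCongr hKg)
  obtain ⟨s, hs⟩ := exists_section τ hc ((K _).subtype.comp e'.toMonoidHom)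
    (Subtype.val_injective.comp e'.injective) (fun x ⟨y, hy⟩ => hr (hy ▸ (e' y).2.2))
  refine ⟨s.comp e'.symm.toMonoidHom, fun x => ?_⟩
  show τ (s (e'.symm x)) = x
  rw [hs]
  exact congrArg Subtype.val (e'.apply_symm_apply x)

end Cfsg.Agent.Fi24Mult
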