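import Cfsg.Agent.Fi24Mult.Lift
import Cfsg.Agent.Fi24Mult.Log.Checks
import Cfsg.Agent.Fi24Mult.Log.Witness

/-!
The log with values, read in the cosets of the group of pairs, bounds the two entries of the lift
of the spider word.
-/

set_option autoImplicit false
set_option maxRecDepth 100000

namespace Cfsg.Agent.Fi24Mult

open Cfsg.Agent.Fi24
open Cfsg.Agent.CosetCert
open Cfsg.Spor.Fi24 (Gen edges)

/-- The relators with their codes, the spider left out. -/
abbrev plainWords : List (List (Gen × Bool)) :=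
  (coxWords Fi24Index.genList edges Cfsg.Spor.Fi24.extra).eraseIdx 79

/-- The spider as a word. -/
abbrev spiderWord : List (Gen × Bool) :=
  (List.replicate 17 [Gen.d, .c, .b, .a, .k, .l, .d, .e, .f, .g, .j, .d, .h, .i]).flatten.map
    fun x => (x, true)

theorem words_eq :
    (∀ k, k < 93 → k ≠ 79 → Log.data.W.getD k [] ∈
      plainWords.map (List.map (Data.code (fun x => x) Fi24Index.enc)) ++
        ([] :: (List.range 12).map fun x => [x, x])) ∧
    Log.data.W.getD 79 [] = spiderWord.map (Data.code (fun x => x) Fi24Index.enc) ∧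
    Log.data.W.length = 104 ∧
    (∀ k, k < 104 → 93 ≤ k → ∀ x ∈ Log.data.W.getD k [], 0 < x ∧ x < 12) ∧
    (∀ k, k < 104 → Log.data.PW k = pack (Log.data.W.getD k []) ∧
      ∀ x ∈ Log.data.W.getD k [], x < 31) := by
  refine ⟨?_, ?_, ?_, ?_, ?_⟩ <;> decide +kernel

theorem plain_ne : ∀ l ∈ plainWords, FreeGroup.mk l ≠ spiderRel := by decide +kernel

theorem spiderWord_eq : FreeGroup.mk spiderWord = spiderRel := by decide +kernel

theorem spiderRel_mem : spiderRel ∈ R := Or.inr (by simp [Cfsg.Spor.Fi24.extra, spiderRel])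

theorem plain_mem : ∀ l ∈ plainWords, FreeGroup.mk l ∈ R := by
  intro l hl
  have hn : ∀ z : Gen, z ∈ Cfsg.Spor.coxNodes edges := by intro z; cases z <;> decide
  have hl' := List.mem_of_mem_eraseIdx hl
  rcases List.mem_append.1 hl' with h | h
  · obtain ⟨p, -, rfl⟩ := List.mem_map.1 h
    exact Or.inl ⟨p.1, hn _, p.2, hn _, mk_powPair _ _ _⟩
  · obtain ⟨r, hr, rfl⟩ := List.mem_map.1 h
    exact Or.inr (by rwa [FreeGroup.mk_toWord])

theorem dec_ne_k : ∀ x, 0 < x → x < 12 → (Fi24Index.dec x).1 ≠ Gen.k := by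
  intro x h0 h12
  interval_cases x <;> decide

variable {Γ : Type} [Group Γ] [Finite Γ] {τ : Γ →* G} {e : H →* Tw Γ} {X : Gen → Tw Γ}

/-- The lift of a word lies over it. -/
theorem Lifts.over_mk (hX : Lifts τ e X) (w : FreeGroup Gen) :
    τ (FreeGroup.lift X w).p * (bif (FreeGroup.lift X w).odd then L else 1) =
        PresentedGroup.mk R w ∧
      τ (FreeGroup.lift X w).q = L * τ (FreeGroup.lift X w).p * L := by
  have hLL : ∀ z : G, L * (L * z) = z := fun z => by rw [← mul_assoc, gen_sq, one_mul]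
  induction w using FreeGroup.induction_on with
  | C1 => simp [gen_sq]
  | of x =>
    rw [FreeGroup.lift_apply_of, hX.X_odd x]
    exact hX.lies x
  | inv_of x _ =>
    rw [map_inv, FreeGroup.lift_apply_of, inv_eq_of_mul_eq_one_right (hX.X_sq x), hX.X_odd x,
      map_inv, show PresentedGroup.mk R (FreeGroup.of x) = gen x from rfl, gen_inv]
    exact hX.lies x
  | mul u v hu hv =>
    rw [map_mul, map_mul]
    generalize FreeGroup.lift X u = a at hu ⊢
    generalize FreeGroup.lift X v = b at hv ⊢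
    obtain ⟨p, q, o⟩ := a
    obtain ⟨p', q', o'⟩ := b
    rw [← hu.1, ← hv.1]
    obtain ⟨-, hq⟩ := hu
    obtain ⟨-, hq'⟩ := hv
    cases o <;> cases o' <;>
      simp only [Tw.mul_def, map_mul, hq, hq', mul_assoc, cond_true, cond_false, Bool.xor_false,
        Bool.false_xor, Bool.xor_true, Bool.not_true, Bool.not_false, mul_one, gen_sq, hLL, and_self]

theorem Lifts.sign_over (hX : Lifts τ e X) (hr : τ.range = sign.ker) (w : FreeGroup Gen)
    (hw : sign (PresentedGroup.mk R w) = 1) :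
    (FreeGroup.lift X w).odd = false ∧ τ (FreeGroup.lift X w).p = PresentedGroup.mk R w := by
  have h := (hX.over_mk w).1
  have hp : sign (τ (FreeGroup.lift X w).p) = 1 := by
    rw [← MonoidHom.mem_ker, ← hr]; exact ⟨_, rfl⟩
  cases ho : (FreeGroup.lift X w).odd
  · rw [ho] at h
    exact ⟨rfl, by simpa using h⟩
  · exfalso
    rw [ho, cond_true] at h
    have h2 := congrArg sign h
    rw [map_mul, hp, hw, one_mul, sign_L] at h2
    exact absurd h2 (by decide)

theorem Lifts.over_one (hX : Lifts τ e X) (hr : τ.range = sign.ker) {w : FreeGroup Gen}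
    (hw : PresentedGroup.mk R w = 1) :
    ∃ p ∈ τ.ker, ∃ q ∈ τ.ker, FreeGroup.lift X w = Tw.pair p q := by
  obtain ⟨ho, hp⟩ := hX.sign_over hr w (by rw [hw, map_one])
  have hq := (hX.over_mk w).2
  rw [hp, hw, mul_one, gen_sq] at hq
  exact ⟨_, MonoidHom.mem_ker.2 (hp.trans hw), _, MonoidHom.mem_ker.2 hq, Tw.ext rfl rfl ho⟩

/-- The 630th powers in the kernel. -/
def IsPow630 (τ : Γ →* G) (a : Γ) : Prop := ∃ c ∈ τ.ker, a = c ^ 630

section bound

variable (hc : τ.ker ≤ Subgroup.center Γ)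
include hc

theorem comm_ker {a : Γ} (ha : a ∈ τ.ker) (b : Γ) : Commute b a :=
  Subgroup.mem_center_iff.1 (hc ha) b

theorem isPow630_mul {a b : Γ} (ha : IsPow630 τ a) (hb : IsPow630 τ b) : IsPow630 τ (a * b) := by
  obtain ⟨c, hc', rfl⟩ := ha
  obtain ⟨d, hd, rfl⟩ := hb
  exact ⟨c * d, mul_mem hc' hd, ((comm_ker hc hd c).mul_pow 630).symm⟩

omit hc in
theorem isPow630_inv {a : Γ} (ha : IsPow630 τ a) : IsPow630 τ a⁻¹ := by
  obtain ⟨c, hc', rfl⟩ := ha
  exact ⟨c⁻¹, inv_mem hc', (inv_pow c 630).symm⟩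

omit hc in
theorem isPow630_one : IsPow630 τ (1 : Γ) := ⟨1, one_mem _, (one_pow _).symm⟩

/-- The pairs of 630th powers. -/
def powPairs : Subgroup (Tw Γ) where
  carrier := {w | w.odd = false ∧ IsPow630 τ w.p ∧ IsPow630 τ w.q}
  one_mem' := ⟨rfl, isPow630_one, isPow630_one⟩
  mul_mem' {a b} ha hb := by
    obtain ⟨ho, hp, hq⟩ := ha
    obtain ⟨ho', hp', hq'⟩ := hb
    refine ⟨?_, ?_, ?_⟩
    · simp [Tw.mul_def, ho, ho']
    · simpa [Tw.mul_def, ho] using isPow630_mul hc hp hp'
    · simpa [Tw.mul_def, ho] using isPow630_mul hc hq hq'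
  inv_mem' {a} ha := by
    obtain ⟨ho, hp, hq⟩ := ha
    refine ⟨?_, ?_, ?_⟩
    · simp [Tw.inv_def, ho]
    · simpa [Tw.inv_def, ho] using isPow630_inv hp
    · simpa [Tw.inv_def, ho] using isPow630_inv hq

theorem powPairs_normal : (powPairs hc).Normal := by
  refine ⟨fun b hb w => ?_⟩
  obtain ⟨ho, hp, hq⟩ := hb
  have hp' : b.p ∈ Subgroup.center Γ := by
    obtain ⟨c, hc', e⟩ := hp; rw [e]; exact hc (pow_mem hc' _)
  have hq' : b.q ∈ Subgroup.center Γ := by
    obtain ⟨c, hc', e⟩ := hq; rw [e]; exact hc (pow_mem hc' _)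
  have hb : b = Tw.pair b.p b.q := Tw.ext rfl rfl ho
  rw [hb, Tw.conj_pair hp' hq']
  cases w.odd
  · exact ⟨rfl, hp, hq⟩
  · exact ⟨rfl, hq, hp⟩

variable (hr : τ.range = sign.ker) (hX : Lifts τ e X)
include hr hX

theorem spider_entries :
    ∃ z₁ ∈ τ.ker, ∃ z₂ ∈ τ.ker, FreeGroup.lift X spiderRel = Tw.pair z₁ z₂ ∧
      IsPow630 τ (z₁ ^ 3) ∧ IsPow630 τ (z₂ ^ 3) ∧ IsPow630 τ (z₁ * z₂) := by
  obtain ⟨z₁, hz₁, z₂, hz₂, hZ⟩ :=
    hX.over_one hr (PresentedGroup.one_of_mem (rels := R) spiderRel_mem)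
  refine ⟨z₁, hz₁, z₂, hz₂, hZ, ?_⟩
  haveI := powPairs_normal hc
  let Mx : Subgroup (Tw Γ) := e.range ⊔ powPairs hc
  have hBfix : ∀ b ∈ powPairs hc, ∀ z : Tw Γ ⧸ Mx, b • z = z := by
    intro b hb z
    induction z using QuotientGroup.induction_on with
    | _ g =>
      show ((b * g : Tw Γ) : Tw Γ ⧸ Mx) = (g : Tw Γ ⧸ Mx)
      rw [QuotientGroup.eq]
      have := (powPairs_normal hc).conj_mem _ (inv_mem hb) g⁻¹
      rw [inv_inv] at this
      rw [mul_inv_rev]
      exact Subgroup.mem_sup_right this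
  let pr : ℕ → ℕ → Tw Γ := fun m n => Tw.pair (z₁ ^ m * z₂ ^ n) (z₂ ^ m * z₁ ^ n)
  have c12 : Commute z₁ z₂ := comm_ker hc hz₂ z₁
  have pr_add : ∀ m n m' n', pr (m + m') (n + n') = pr m n * pr m' n' := by
    intro m n m' n'
    simp only [pr, Tw.pair_mul, pow_add]
    congr 1
    · rw [mul_assoc, ← mul_assoc (z₁ ^ m'), (c12.pow_pow m' n).eq]; simp only [mul_assoc]
    · rw [mul_assoc, ← mul_assoc (z₂ ^ m'), (c12.symm.pow_pow m' n).eq]; simp only [mul_assoc]
  have pr_630 : ∀ a b, pr (630 * a) (630 * b) ∈ powPairs hc := by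
    intro a b
    refine ⟨rfl, ⟨z₁ ^ a * z₂ ^ b, mul_mem (pow_mem hz₁ _) (pow_mem hz₂ _), ?_⟩,
      ⟨z₂ ^ a * z₁ ^ b, mul_mem (pow_mem hz₂ _) (pow_mem hz₁ _), ?_⟩⟩
    · rw [((c12.pow_pow a b)).mul_pow, ← pow_mul, ← pow_mul, Nat.mul_comm a, Nat.mul_comm b]; rfl
    · rw [((c12.symm.pow_pow a b)).mul_pow, ← pow_mul, ← pow_mul, Nat.mul_comm a, Nat.mul_comm b]
      rfl
  have pr_mod : ∀ m n (z : Tw Γ ⧸ Mx), pr m n • z = pr (m % 630) (n % 630) • z := by
    intro m n z
    conv_lhs => rw [← Nat.mod_add_div m 630, ← Nat.mod_add_div n 630, pr_add, mul_smul,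
      hBfix _ (pr_630 _ _)]
  let act : Nat → Tw Γ ⧸ Mx → Tw Γ ⧸ Mx := fun x z =>
    if x = 12 then z else X (Fi24Index.dec x).1 • z
  let op : ZMod 630 → ZMod 630 → Tw Γ ⧸ Mx → Tw Γ ⧸ Mx := fun m n z => pr m.val n.val • z
  have hswap : ∀ (w : Tw Γ) m n, w.odd = true → w * pr m n = pr n m * w := by
    intro w m n hw
    have h := Tw.conj_pair
      (hc (mul_mem (pow_mem hz₁ m) (pow_mem hz₂ n))) (hc (mul_mem (pow_mem hz₂ m) (pow_mem hz₁ n))) w
    rw [hw, cond_true, mul_inv_eq_iff_eq_mul] at h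
    have e1 : Tw.pair (z₂ ^ m * z₁ ^ n) (z₁ ^ m * z₂ ^ n) = pr n m := by
      show _ = Tw.pair _ _
      rw [(c12.symm.pow_pow m n).eq, (c12.pow_pow m n).eq]
    rw [← e1]; exact h
  have hlaws : Laws act op 12 :=
    { zero := fun z => by
        show pr (0 : ZMod 630).val (0 : ZMod 630).val • z = z
        rw [ZMod.val_zero]
        simp [pr, Tw.pair_one]
      add := fun m n m' n' z => by
        show pr (m + m').val (n + n').val • z = pr m.val n.val • pr m'.val n'.val • z
        rw [ZMod.val_add, ZMod.val_add, ← pr_mod, pr_add, mul_smul]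
      swap := fun x m n z hx => by
        simp only [act, op, if_neg hx, smul_smul]
        rw [hswap _ _ _ (hX.X_odd _)]
      invol := fun x z => by
        by_cases hx : x = 12
        · simp [act, hx]
        · simp only [act, if_neg hx, smul_smul, hX.X_sq, one_smul]
      idle := fun z => if_pos rfl }
  have hcode : ∀ (l : List (Gen × Bool)) z,
      app act (l.map (Data.code (fun x => x) Fi24Index.enc)) z =
        (FreeGroup.lift X (FreeGroup.mk l))⁻¹ • z := by
    intro l
    induction l with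
    | nil => intro z; simp [show (FreeGroup.mk ([] : List (Gen × Bool))) = 1 from rfl]
    | cons a t ih =>
      intro z
      have hcd : Data.code (fun x => x) Fi24Index.enc a = Fi24Index.enc a.1 := by
        obtain ⟨b, _ | _⟩ := a <;> rfl
      have hlt : Fi24Index.enc a.1 < 12 := (Fi24Index.spells.enc_lt a.1).1
      have hd : (Fi24Index.dec (Fi24Index.enc a.1)).1 = a.1 := by
        rw [(Fi24Index.spells.enc_lt a.1).2]
      have h1 : (FreeGroup.lift X (FreeGroup.mk [a]))⁻¹ = X a.1 := by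
        obtain ⟨b, _ | _⟩ := a
        · simp [FreeGroup.lift_mk]
        · simpa [FreeGroup.lift_mk] using inv_eq_of_mul_eq_one_right (hX.X_sq b)
      rw [List.map_cons, app_cons, ih, show FreeGroup.mk (a :: t) = FreeGroup.mk [a] * FreeGroup.mk t
        by rw [FreeGroup.mul_mk]; rfl, map_mul, mul_inv_rev, mul_smul, h1, hcd]
      congr 1
      show act _ z = _
      simp only [act, if_neg (Nat.ne_of_lt hlt), hd]
  have hT : ∀ k, Log.target k < 1048576 := by
    intro k
    unfold Log.target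
    cases Nat.beq k 79 <;> decide
  have hR : ∀ k, k < 93 → ∀ z, app act (Log.data.W.getD k []) z = ev op (Log.target k) z := by
    intro k hk z
    by_cases h79 : k = 79
    · subst h79
      rw [words_eq.2.1, hcode, spiderWord_eq, hZ]
      show _ = pr ((629 : ℕ) : ZMod 630).val ((0 : ℕ) : ZMod 630).val • z
      rw [ZMod.val_natCast, ZMod.val_natCast]
      show _ = pr 629 0 • z
      rw [inv_smul_eq_iff, smul_smul, show Tw.pair z₁ z₂ * pr 629 0 = pr (630 * 1) (630 * 0) by
        simp [pr, Tw.pair_mul, ← pow_succ'], hBfix _ (pr_630 1 0)]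
    · rw [show Log.target k = 0 by
        unfold Log.target
        rw [show Nat.beq k 79 = false from Bool.eq_false_iff.2 fun h => h79 (Nat.eq_of_beq_eq_true h)]
        rfl, ev_zero hlaws]
      rcases List.mem_append.1 (words_eq.1 k hk h79) with h | h
      · obtain ⟨l, hl, he⟩ := List.mem_map.1 h
        rw [← he, hcode, hX.rel _ (plain_mem l hl) (plain_ne l hl), inv_one, one_smul]
      · rcases List.mem_cons.1 h with h | h
        · rw [h]; rfl
        · obtain ⟨x, -, he⟩ := List.mem_map.1 h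
          rw [← he, app_cons, app_cons, app_nil, hlaws.invol]
  let a0 : Tw Γ ⧸ Mx := ((1 : Tw Γ) : Tw Γ ⧸ Mx)
  have hS : ∀ k, k < Log.data.W.length → 93 ≤ k → app act (Log.data.W.getD k []) a0 = a0 := by
    intro k hk h93
    have hl := words_eq.2.2.2.1 k (words_eq.2.2.1 ▸ hk) h93
    generalize Log.data.W.getD k [] = w at hl
    induction w with
    | nil => rfl
    | cons x t ih =>
      obtain ⟨h0, h12⟩ := hl x (List.mem_cons_self ..)
      rw [app_cons, show act x a0 = a0 from ?_, ih fun y hy => hl y (List.mem_cons_of_mem _ hy)]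
      simp only [act, if_neg (Nat.ne_of_lt h12)]
      show ((X (Fi24Index.dec x).1 * 1 : Tw Γ) : Tw Γ ⧸ Mx) = ((1 : Tw Γ) : Tw Γ ⧸ Mx)
      rw [mul_one, QuotientGroup.eq, mul_one]
      exact inv_mem (Subgroup.mem_sup_left ⟨_, (hX.X_H _ (dec_ne_k x h0 h12)).symm⟩)
  have hPW : ∀ k, k < Log.data.W.length → Packs (Log.data.W.getD k []) (Log.data.PW k) :=
    fun k hk => words_eq.2.2.2.2 k (words_eq.2.2.1 ▸ hk)
  have hq := vlog_sound hlaws (V := Log.value) (J := Log.data.J) (PW := Log.data.PW)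
    (T := Log.target) (M := Log.data.M) (W := Log.data.W) (q := Data.points Log.data act a0)
    323704 Log.data a0 rfl rfl Log.value_lt hT hPW
    (by rw [words_eq.2.2.1]; decide) hR hS Log.ok
  -- what a fixed point says
  have hfix : ∀ (a : Tw Γ ⧸ Mx) m n, pr m n • a = a →
      IsPow630 τ (z₁ ^ m * z₂ ^ n) ∧ IsPow630 τ (z₂ ^ m * z₁ ^ n) := by
    intro a m n ha
    induction a using QuotientGroup.induction_on with
    | _ g =>
      have ha' : ((pr m n * g : Tw Γ) : Tw Γ ⧸ Mx) = (g : Tw Γ ⧸ Mx) := ha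
      rw [QuotientGroup.eq, mul_inv_rev] at ha'
      have hcp : g⁻¹ * pr m n * g = bif g.odd then pr n m else pr m n := by
        cases hg : g.odd
        · have h := Tw.conj_pair (hc (mul_mem (pow_mem hz₁ m) (pow_mem hz₂ n)))
            (hc (mul_mem (pow_mem hz₂ m) (pow_mem hz₁ n))) g⁻¹
          rw [inv_inv, Tw.inv_def, hg] at h
          rw [Tw.inv_def, hg]
          exact h
        · rw [cond_true, mul_assoc, ← hswap g n m hg, inv_mul_cancel_left]
      have hmem : (bif g.odd then pr n m else pr m n) ∈ Mx := by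
        rw [← hcp]
        simpa [mul_assoc] using inv_mem ha'
      have hmem' : ∀ a b, a ∈ τ.ker → b ∈ τ.ker → Tw.pair a b ∈ Mx →
          IsPow630 τ a ∧ IsPow630 τ b := by
        intro a b ha hb hm
        obtain ⟨u, ⟨h, rfl⟩, v, hv, huv⟩ : ∃ u ∈ (e.range : Set (Tw Γ)), ∃ v ∈ (powPairs hc : Set (Tw Γ)),
            u * v = Tw.pair a b :=
          Set.mem_mul.1 (Subgroup.mul_normal e.range (powPairs hc) ▸ hm)
        obtain ⟨ho, hp, hq⟩ := hv
        have hvp : τ v.p = 1 := by obtain ⟨c, hc', e'⟩ := hp; rw [e', map_pow, MonoidHom.mem_ker.1 hc', one_pow]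
        have hod : (e h).odd = false := by
          have := congrArg Tw.odd huv
          simpa [Tw.mul_def, Tw.pair, ho] using this
        have hpp : (e h).p * v.p = a := by
          have := congrArg Tw.p huv
          simpa [Tw.mul_def, Tw.pair, hod] using this
        have h1 : h = 1 := by
          apply Subtype.ext
          have hp1 := congrArg τ hpp
          rw [map_mul, hvp, mul_one, MonoidHom.mem_ker.1 ha] at hp1
          rw [← (hX.over_H h).1, hod, cond_false, mul_one, OneMemClass.coe_one, hp1]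
        rw [h1, map_one, one_mul] at huv
        rw [huv] at hp hq
        exact ⟨hp, hq⟩
      cases hg : g.odd <;> rw [hg] at hmem
      · exact hmem' _ _ (mul_mem (pow_mem hz₁ _) (pow_mem hz₂ _))
          (mul_mem (pow_mem hz₂ _) (pow_mem hz₁ _)) hmem
      · obtain ⟨h1, h2⟩ := hmem' _ _ (mul_mem (pow_mem hz₁ _) (pow_mem hz₂ _))
          (mul_mem (pow_mem hz₂ _) (pow_mem hz₁ _)) hmem
        rw [(c12.pow_pow n m).eq] at h1
        rw [(c12.symm.pow_pow n m).eq] at h2
        exact ⟨h2, h1⟩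
  have hw : ∀ k, k < 93 → k ≠ 79 → ∀ {n items p E : Nat}, p < 1048576 → E < 1048576 →
      vwalk Log.data.F Log.value 12 Log.data.Nf n items p (Log.data.PW k) 0 = vstop p 0 E →
      IsPow630 τ (z₁ ^ (E / 1024 % 630) * z₂ ^ (E % 1024 % 630)) ∧
        IsPow630 τ (z₂ ^ (E / 1024 % 630) * z₁ ^ (E % 1024 % 630)) := by
    intro k hk h79 n items p E hp hE hwalk
    have h := vwitness hlaws (T := Log.target k) Log.value_lt
      (fun m hm => hq m hm) (hPW k (by rw [words_eq.2.2.1]; omega)) hp hE (hR k hk) hwalk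
    rw [show Log.target k = 0 by
        unfold Log.target
        rw [show Nat.beq k 79 = false from Bool.eq_false_iff.2 fun h => h79 (Nat.eq_of_beq_eq_true h)]
        rfl, ev_zero hlaws] at h
    refine hfix (Data.points Log.data act a0 p) _ _ ?_
    have h' : pr ((E / 1024 : ℕ) : ZMod 630).val ((E % 1024 : ℕ) : ZMod 630).val •
        Data.points Log.data act a0 p = Data.points Log.data act a0 p := h
    rwa [ZMod.val_natCast, ZMod.val_natCast] at h'
  obtain ⟨h1, h2⟩ := hw 13 (by norm_num) (by norm_num) (by norm_num) (by norm_num) Log.witness0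
  obtain ⟨h3, -⟩ := hw 33 (by norm_num) (by norm_num) (by norm_num) (by norm_num) Log.witness1
  norm_num at h1 h2 h3
  refine ⟨h2, h1, ?_⟩
  obtain ⟨c, hc', hce⟩ := h3
  refine ⟨z₁ * z₂ * c⁻¹, mul_mem (mul_mem hz₁ hz₂) (inv_mem hc'), ?_⟩
  rw [(comm_ker hc (inv_mem hc') (z₁ * z₂)).mul_pow, inv_pow, ← hce, c12.mul_pow,
    eq_mul_inv_iff_mul_eq]
  have e1 : ∀ z : Γ, z ^ 630 = z * z ^ 629 := fun z => by rw [← pow_succ']
  rw [e1 z₁, e1 z₂, mul_assoc z₁ z₂, ← mul_assoc z₂, (c12.symm.pow_right 629).eq]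
  simp only [mul_assoc]

end bound

end Cfsg.Agent.Fi24Mult
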