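import Cfsg.Agent.CosetCert.Group

/-!
Coset logs with values: the facts hold up to the action of pairs of residues modulo 630, a letter
exchanging the two residues.
-/

set_option autoImplicit false

namespace Cfsg.Agent.Fi24Mult

open Cfsg.Agent.CosetCert

/-- Pairs of residues packed as `m * 1024 + n`. -/
noncomputable def vadd (a b : Nat) : Nat :=
  Nat.add (Nat.mul (Nat.mod (Nat.add (Nat.div a 1024) (Nat.div b 1024)) 630) 1024)
    (Nat.mod (Nat.add (Nat.mod a 1024) (Nat.mod b 1024)) 630)

/-- Exchange the residues. -/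
noncomputable def vsw (a : Nat) : Nat :=
  Nat.add (Nat.mul (Nat.mod a 1024) 1024) (Nat.mod (Nat.div a 1024) 1024)

/-- The negative. -/
noncomputable def vneg (a : Nat) : Nat :=
  Nat.add (Nat.mul (Nat.mod (Nat.sub 645120 (Nat.div a 1024)) 630) 1024)
    (Nat.mod (Nat.sub 645120 (Nat.mod a 1024)) 630)

/-- The state after a cycle part, shifted by one. -/
noncomputable def vstop (cur w acc : Nat) : Nat :=
  Nat.succ (Nat.add (Nat.mul (Nat.add (Nat.mul w 1048576) cur) 1048576) acc)

/-- One item from `a` along `x` to `b` with the value `v`. -/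
noncomputable def vhop (K a x b v cur w acc : Nat) (next : Nat → Nat → Nat → Nat) : Nat :=
  sel (Nat.beq cur a) (force (eat K x w) fun r => sel (Nat.beq r 0) 0
    (force b fun c => force (sel (Nat.beq x K) (vadd acc v) (vadd (vsw acc) v)) fun s =>
      next c (Nat.pred r) s)) 0

/-- The fact numbered `it / 2`, read in the direction `it % 2`. -/
noncomputable def vitem (F V : Nat → Nat) (K i it cur w acc : Nat)
    (next : Nat → Nat → Nat → Nat) : Nat :=
  sel (Nat.blt (Nat.div it 2) i)
    (force (F (Nat.div it 2)) fun f => force (V (Nat.div it 2)) fun v =>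
      sel (Nat.beq (Nat.mod it 2) 0) (vhop K (fu f) (fx f) (fv f) v cur w acc next)
        (vhop K (fv f) (fx f) (fu f) (sel (Nat.beq (fx f) K) (vneg v) (vneg (vsw v))) cur w acc next))
    0

/-- Follow `n` items packed in `j`, using facts numbered below `i` only. -/
noncomputable def vwalk (F V : Nat → Nat) (K i : Nat) : Nat → Nat → Nat → Nat → Nat → Nat :=
  fun n => Nat.rec (fun _ cur w acc => vstop cur w acc)
    (fun _ ih j cur w acc => force (Nat.mod j 4194304) fun it => force (Nat.div j 4194304) fun j' =>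
      vitem F V K i it cur w acc (ih j')) n

/-- Check fact `i`: the words below `nR` move every point by their targets, the others fix `0`. -/
noncomputable def vcheck (F V J PW T : Nat → Nat) (K M nR nW i : Nat) : Bool :=
  Bool.rec (motive := fun _ => Bool)
    (force (F i) fun f => force (J i) fun j =>
      force (Nat.mod j 1048576) fun c => force (Nat.mod (Nat.div j 1048576) 256) fun k =>
      force (Nat.mod (Nat.div j 268435456) 256) fun nb =>
      force (Nat.mod (Nat.div j 68719476736) 256) fun na =>
      gate (Bool.rec (motive := fun _ => Bool)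
          (gate (Nat.beq c 0) (gate (Nat.blt k nW) (Nat.beq (T k) 0))) true (Nat.blt k nR))
        (force (Nat.div j 17592186044416) fun items =>
          force (PW k) fun pw =>
          force (vwalk F V K i nb items c pw 0) fun r =>
          gate (Nat.ble 1 r) (force (Nat.pred r) fun s =>
            force (Nat.mod s 1048576) fun acc => force (Nat.div s 1048576) fun s' =>
            gate (Nat.beq (Nat.mod s' 1048576) (fu f))
              (force (eat K (fx f) (Nat.div s' 1048576)) fun r₂ => gate (Nat.ble 1 r₂)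
                (force (sel (Nat.beq (fx f) K) (vadd acc (V i)) (vadd (vsw acc) (V i))) fun acc' =>
                  force (Nat.shiftRight items (Nat.mul 22 nb)) fun items' =>
                  Nat.beq (vwalk F V K i na items' (fv f) (Nat.pred r₂) acc') (vstop c 0 (T k)))))))
    (gate (checkDef F i) (Nat.beq (V i) 0))
    (Nat.blt i M)

section sound

variable {α : Type*} (σ : Nat → α → α) (op : ZMod 630 → ZMod 630 → α → α)

/-- The action of a packed pair. -/
def ev (a : Nat) (z : α) : α := op ((a / 1024 : ℕ) : ZMod 630) ((a % 1024 : ℕ) : ZMod 630) z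

/-- What the letters and pairs satisfy. -/
structure Laws (K : Nat) : Prop where
  zero : ∀ z, op 0 0 z = z
  add : ∀ m n m' n' z, op (m + m') (n + n') z = op m n (op m' n' z)
  swap : ∀ x m n z, x ≠ K → σ x (op m n z) = op n m (σ x z)
  invol : ∀ x z, σ x (σ x z) = z
  idle : ∀ z, σ K z = z

variable {σ op} {K : Nat} (H : Laws σ op K)
include H

theorem ev_zero (z : α) : ev op 0 z = z := by simp [ev, H.zero]

theorem ev_vadd (a b : Nat) (z : α) : ev op (vadd a b) z = ev op a (ev op b z) := by
  have h1 : (a / 1024 + b / 1024) % 630 < 630 := Nat.mod_lt _ (by norm_num)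
  have h2 : (a % 1024 + b % 1024) % 630 < 630 := Nat.mod_lt _ (by norm_num)
  have e : vadd a b = (a / 1024 + b / 1024) % 630 * 1024 + (a % 1024 + b % 1024) % 630 := rfl
  unfold ev
  rw [← H.add, e, show ((a / 1024 + b / 1024) % 630 * 1024 + (a % 1024 + b % 1024) % 630) / 1024 =
      (a / 1024 + b / 1024) % 630 by omega, show ((a / 1024 + b / 1024) % 630 * 1024 +
      (a % 1024 + b % 1024) % 630) % 1024 = (a % 1024 + b % 1024) % 630 by omega]
  simp [ZMod.natCast_mod]

theorem ev_vsw {x : Nat} (hx : x ≠ K) {a : Nat} (ha : a < 1048576) (z : α) :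
    σ x (ev op a z) = ev op (vsw a) (σ x z) := by
  have e : vsw a = a % 1024 * 1024 + a / 1024 % 1024 := rfl
  unfold ev
  rw [H.swap x _ _ z hx, e, show (a % 1024 * 1024 + a / 1024 % 1024) / 1024 = a % 1024 by omega,
    show (a % 1024 * 1024 + a / 1024 % 1024) % 1024 = a / 1024 by omega]

theorem ev_vneg {a : Nat} (ha : a < 1048576) (z : α) : ev op (vneg a) (ev op a z) = z := by
  have e : vneg a = (645120 - a / 1024) % 630 * 1024 + (645120 - a % 1024) % 630 := rfl
  have h1 : (645120 - a / 1024) % 630 < 630 := Nat.mod_lt _ (by norm_num)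
  have h2 : (645120 - a % 1024) % 630 < 630 := Nat.mod_lt _ (by norm_num)
  unfold ev
  rw [← H.add, e, show ((645120 - a / 1024) % 630 * 1024 + (645120 - a % 1024) % 630) / 1024 =
      (645120 - a / 1024) % 630 by omega, show ((645120 - a / 1024) % 630 * 1024 +
      (645120 - a % 1024) % 630) % 1024 = (645120 - a % 1024) % 630 by omega]
  simp only [ZMod.natCast_mod]
  rw [Nat.cast_sub (by omega), Nat.cast_sub (by omega)]
  have h0 : (645120 : ZMod 630) = 0 := by decide
  simp [h0, H.zero]

theorem ev_injective (a : Nat) : Function.Injective (ev op a) := fun u v h => by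
  have := congrArg (op (-((a / 1024 : ℕ) : ZMod 630)) (-((a % 1024 : ℕ) : ZMod 630))) h
  simpa [ev, ← H.add, H.zero] using this

theorem σ_injective (x : Nat) : Function.Injective (σ x) := fun u v h => by
  rw [← H.invol x u, h, H.invol]

omit H in
theorem vadd_lt (a b : Nat) : vadd a b < 1048576 := by
  have h1 : (a / 1024 + b / 1024) % 630 < 630 := Nat.mod_lt _ (by norm_num)
  have h2 : (a % 1024 + b % 1024) % 630 < 630 := Nat.mod_lt _ (by norm_num)
  have e : vadd a b = (a / 1024 + b / 1024) % 630 * 1024 + (a % 1024 + b % 1024) % 630 := rfl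
  omega

omit H in
theorem vsw_lt (a : Nat) : vsw a < 1048576 := by
  have h1 : a % 1024 < 1024 := Nat.mod_lt _ (by norm_num)
  have h2 : a / 1024 % 1024 < 1024 := Nat.mod_lt _ (by norm_num)
  have e : vsw a = a % 1024 * 1024 + a / 1024 % 1024 := rfl
  omega

omit H in
/-- Fact `i` holds for the points `q`. -/
def VHolds (σ : Nat → α → α) (op : ZMod 630 → ZMod 630 → α → α) (F V : Nat → Nat) (q : Nat → α)
    (i : Nat) : Prop :=
  σ (fx (F i)) (q (fu (F i))) = ev op (V i) (q (fv (F i)))

/-- The new value after a step along `x` with the value `v`. -/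
theorem step_value {x acc v : Nat} (hacc : acc < 1048576) {a b : α}
    (h : σ x a = ev op v b) :
    σ x (ev op acc a) = ev op (sel (Nat.beq x K) (vadd acc v) (vadd (vsw acc) v)) b := by
  cases hx : Nat.beq x K
  · have hx' : x ≠ K := fun e => by simp [e] at hx
    show _ = ev op (vadd (vsw acc) v) b
    rw [ev_vadd H, ev_vsw H hx' hacc, h]
  · obtain rfl := Nat.eq_of_beq_eq_true hx
    show _ = ev op (vadd acc v) b
    rw [H.idle] at h ⊢
    rw [ev_vadd H, h]

omit H in
theorem step_lt (x acc v : Nat) :
    sel (Nat.beq x K) (vadd acc v) (vadd (vsw acc) v) < 1048576 := by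
  cases Nat.beq x K
  · exact vadd_lt (vsw acc) v
  · exact vadd_lt acc v

theorem vhop_sound {a x b v cur w acc : Nat} {l : List Nat} {next : Nat → Nat → Nat → Nat}
    {q : Nat → α} (hl : Packs l w) (hacc : acc < 1048576) (hb : σ x (q a) = ev op v (q b))
    (h : vhop K a x b v cur w acc next ≠ 0) :
    ∃ r s l', Packs l' r ∧ s < 1048576 ∧ next b r s = vhop K a x b v cur w acc next ∧
      app σ l (ev op acc (q cur)) = app σ l' (ev op s (q b)) := by
  unfold vhop sel at h ⊢
  cases hc : Nat.beq cur a <;> rw [hc] at h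
  · exact absurd rfl h
  · simp only [force_eq] at h ⊢
    obtain ⟨r, hr⟩ : ∃ r, eat K x w = Nat.succ r := by
      cases he : eat K x w with
      | zero => rw [he] at h; exact absurd rfl h
      | succ r => exact ⟨r, rfl⟩
    obtain ⟨l', hl', happ⟩ := eat_sound σ H.idle hl hr
    refine ⟨r, sel (Nat.beq x K) (vadd acc v) (vadd (vsw acc) v), l', hl', step_lt x acc v, ?_, ?_⟩
    · rw [hr]; rfl
    · rw [happ, Nat.eq_of_beq_eq_true hc, step_value H hacc hb]

variable {F V : Nat → Nat} {i : Nat} {q : Nat → α}

theorem vwalk_sound (hV : ∀ m, V m < 1048576) (hq : ∀ m, m < i → VHolds σ op F V q m) :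
    ∀ {n j cur w acc s : Nat} {l : List Nat}, Packs l w → acc < 1048576 →
      vwalk F V K i n j cur w acc = Nat.succ s →
      ∃ c r a l', Packs l' r ∧ a < 1048576 ∧ s = (r * 1048576 + c) * 1048576 + a ∧
        (cur < 1048576 → c < 1048576) ∧
        app σ l (ev op acc (q cur)) = app σ l' (ev op a (q c)) := by
  intro n
  induction n with
  | zero =>
    exact fun hl hacc h => ⟨_, _, _, _, hl, hacc, (Nat.succ.inj h).symm, id, rfl⟩
  | succ n ih =>
    intro j cur w acc s l hl hacc h
    have h' : force (Nat.mod j 4194304) (fun it => force (Nat.div j 4194304) fun j' =>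
      vitem F V K i it cur w acc (vwalk F V K i n j')) = Nat.succ s := h
    simp only [force_eq, vitem] at h'
    generalize Nat.mod j 4194304 = it, Nat.div j 4194304 = j' at h'
    cases hlt : Nat.blt (Nat.div it 2) i <;> rw [hlt] at h'
    · exact absurd h' (by simp [sel])
    · generalize hm : Nat.div it 2 = m at hlt h'
      have hf : σ (fx (F m)) (q (fu (F m))) = ev op (V m) (q (fv (F m))) := hq _ (Nat.ble_eq.mp hlt)
      cases hd : Nat.beq (Nat.mod it 2) 0 <;> rw [hd] at h'
      · change vhop K (fv (F m)) (fx (F m)) (fu (F m))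
          (sel (Nat.beq (fx (F m)) K) (vneg (V m)) (vneg (vsw (V m)))) cur w acc
          (vwalk F V K i n j') = _ at h'
        have hback : σ (fx (F m)) (q (fv (F m))) =
            ev op (sel (Nat.beq (fx (F m)) K) (vneg (V m)) (vneg (vsw (V m)))) (q (fu (F m))) := by
          cases hx : Nat.beq (fx (F m)) K
          · have hx' : fx (F m) ≠ K := fun e => by simp [e] at hx
            show _ = ev op (vneg (vsw (V m))) (q (fu (F m)))
            have e2 : q (fu (F m)) = ev op (vsw (V m)) (σ (fx (F m)) (q (fv (F m)))) := by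
              rw [← ev_vsw H hx' (hV m), ← hf, H.invol]
            rw [e2, ev_vneg H (vsw_lt _)]
          · show _ = ev op (vneg (V m)) (q (fu (F m)))
            rw [Nat.eq_of_beq_eq_true hx, H.idle] at hf ⊢
            rw [hf, ev_vneg H (hV m)]
        obtain ⟨r, a, l', hl', ha, hn, happ⟩ :=
          vhop_sound H (q := q) hl hacc hback (fun h0 => Nat.succ_ne_zero s (h'.symm.trans h0))
        obtain ⟨c, r', a', l'', hl'', ha', hs, hlt', happ'⟩ := ih hl' ha (hn.trans h')
        exact ⟨c, r', a', l'', hl'', ha', hs, fun _ => hlt' (Nat.mod_lt _ (by norm_num)),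
          happ.trans happ'⟩
      · change vhop K (fu (F m)) (fx (F m)) (fv (F m)) (V m) cur w acc
          (vwalk F V K i n j') = _ at h'
        obtain ⟨r, a, l', hl', ha, hn, happ⟩ :=
          vhop_sound H (q := q) hl hacc hf (fun h0 => Nat.succ_ne_zero s (h'.symm.trans h0))
        obtain ⟨c, r', a', l'', hl'', ha', hs, hlt', happ'⟩ := ih hl' ha (hn.trans h')
        exact ⟨c, r', a', l'', hl'', ha', hs, fun _ => hlt' (Nat.mod_lt _ (by norm_num)),
          happ.trans happ'⟩

/-- A log with values. -/
theorem vlog_sound {J PW T : Nat → Nat} {M nR : Nat} {W : List (List Nat)} (Nf : Nat)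
    (D : Data) (a0 : α) (hDF : D.F = F) (hqdef : q = Data.points D σ a0)
    (hV : ∀ m, V m < 1048576) (hT : ∀ k, T k < 1048576)
    (hPW : ∀ k, k < W.length → Packs (W.getD k []) (PW k)) (hnR : nR ≤ W.length)
    (hR : ∀ k, k < nR → ∀ z, app σ (W.getD k []) z = ev op (T k) z)
    (hS : ∀ k, k < W.length → nR ≤ k → app σ (W.getD k []) a0 = a0)
    (hc : ∀ i, i < Nf → vcheck F V J PW T K M nR W.length i = true) :
    ∀ i, i < Nf → VHolds σ op F V q i := by
  intro i
  induction i using Nat.strong_induction_on with
  | _ i ih =>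
    intro hi
    have hq' : ∀ m, m < i → VHolds σ op F V q m := fun m hm => ih m hm (hm.trans hi)
    have h := hc i hi
    unfold vcheck at h
    cases hM : Nat.blt i M <;> rw [hM] at h
    · simp only [force_eq, gate_eq, Bool.and_eq_true] at h
      have hc1 : Nat.mod (J i) 1048576 < 1048576 := Nat.mod_lt _ (by norm_num)
      generalize Nat.mod (J i) 1048576 = c, Nat.mod (Nat.div (J i) 1048576) 256 = k,
        Nat.mod (Nat.div (J i) 268435456) 256 = nb, Nat.mod (Nat.div (J i) 68719476736) 256 = na,
        Nat.div (J i) 17592186044416 = items at h hc1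
      obtain ⟨hk, hr, hu, hr2, hend⟩ := h
      obtain ⟨hlen, hfix⟩ : k < W.length ∧ app σ (W.getD k []) (q c) = ev op (T k) (q c) := by
        cases h1 : Nat.blt k nR <;> rw [h1] at hk
        · simp only [Bool.and_eq_true] at hk
          have hk1 : nR ≤ k := by
            by_contra hlt
            have e : Nat.blt k nR = true := Nat.ble_eq.mpr (Nat.lt_of_not_le hlt)
            exact Bool.false_ne_true (h1.symm.trans e)
          refine ⟨Nat.ble_eq.mp hk.2.1, ?_⟩
          rw [Nat.eq_of_beq_eq_true hk.2.2, ev_zero H, Nat.eq_of_beq_eq_true hk.1, hqdef,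
            Data.points_zero]
          exact hS k (Nat.ble_eq.mp hk.2.1) hk1
        · exact ⟨lt_of_lt_of_le (Nat.ble_eq.mp h1) hnR, hR k (Nat.ble_eq.mp h1) _⟩
      generalize hw1 : vwalk F V K i nb items c (PW k) 0 = r at hr hu hr2 hend
      obtain ⟨s, rfl⟩ : ∃ s, r = Nat.succ s :=
        ⟨r - 1, (Nat.sub_add_cancel (Nat.le_of_ble_eq_true hr)).symm⟩
      obtain ⟨e, w₁, a₁, l₁, hl₁, ha₁, hs, hlt, happ₁⟩ :=
        vwalk_sound H hV hq' (hPW k hlen) (by norm_num) hw1
      have he : e < 1048576 := hlt hc1
      simp only [Nat.pred_succ] at hu hr2 hend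
      have hsm : Nat.mod s 1048576 = a₁ := by show s % 1048576 = a₁; omega
      have hsd : Nat.div s 1048576 = w₁ * 1048576 + e := by
        show s / 1048576 = w₁ * 1048576 + e; omega
      rw [hsd] at hu hr2 hend
      rw [hsm] at hend
      obtain rfl : e = fu (F i) := by
        have : (w₁ * 1048576 + e) % 1048576 = fu (F i) := Nat.eq_of_beq_eq_true hu
        omega
      have hdiv : Nat.div (w₁ * 1048576 + fu (F i)) 1048576 = w₁ := by
        show (w₁ * 1048576 + fu (F i)) / 1048576 = w₁; omega
      rw [hdiv] at hr2 hend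
      generalize hw2 : eat K (fx (F i)) w₁ = r₂ at hr2 hend
      obtain ⟨w₂, rfl⟩ : ∃ t, r₂ = Nat.succ t :=
        ⟨r₂ - 1, (Nat.sub_add_cancel (Nat.le_of_ble_eq_true hr2)).symm⟩
      simp only [Nat.pred_succ] at hend
      obtain ⟨l₂, hl₂, happ₂⟩ := eat_sound σ H.idle hl₁ hw2
      have hstop : vwalk F V K i na (Nat.shiftRight items (Nat.mul 22 nb)) (fv (F i)) w₂
          (sel (Nat.beq (fx (F i)) K) (vadd a₁ (V i)) (vadd (vsw a₁) (V i))) =
          Nat.succ ((0 * 1048576 + c) * 1048576 + T k) := Nat.eq_of_beq_eq_true hend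
      obtain ⟨e', w₃, a₃, l₃, hl₃, ha₃, hs₃, hlt₃, happ₃⟩ :=
        vwalk_sound H hV hq' hl₂ (step_lt _ _ _) hstop
      have he' : e' < 1048576 := hlt₃ (Nat.mod_lt _ (by norm_num))
      have hTk := hT k
      obtain rfl : w₃ = 0 := by omega
      obtain rfl : e' = c := by omega
      obtain rfl : a₃ = T k := by omega
      obtain rfl := packs_zero hl₃
      rw [app_nil] at happ₃
      rw [ev_zero H, hfix, happ₂] at happ₁
      have h4 := app_injective σ (σ_injective H) l₂ (happ₁.symm.trans happ₃.symm)
      -- `σ x (ev a₁ (q u)) = ev (step) (q v)`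
      show σ (fx (F i)) (q (fu (F i))) = ev op (V i) (q (fv (F i)))
      cases hx : Nat.beq (fx (F i)) K
      · have hx' : fx (F i) ≠ K := fun e => by simp [e] at hx
        rw [hx, ev_vsw H hx' ha₁] at h4
        change _ = ev op (vadd (vsw a₁) (V i)) _ at h4
        rw [ev_vadd H] at h4
        exact ev_injective H _ h4
      · rw [hx] at h4
        change _ = ev op (vadd a₁ (V i)) _ at h4
        rw [Nat.eq_of_beq_eq_true hx, H.idle] at h4 ⊢
        rw [ev_vadd H] at h4
        exact ev_injective H _ h4
    · simp only [gate_eq, Bool.and_eq_true] at h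
      subst hqdef hDF
      have hh : Holds σ D.F (Data.points D σ a0) i := Data.holds_points h.1
      show σ _ _ = ev op (V i) _
      rw [Nat.eq_of_beq_eq_true h.2, ev_zero H]
      exact hh.symm

/-- A closed walk whose value differs from the target of its word. -/
theorem vwitness {n items p pw E T : Nat} {l : List Nat} (hV : ∀ m, V m < 1048576)
    (hq : ∀ m, m < i → VHolds σ op F V q m) (hl : Packs l pw) (hp : p < 1048576) (hE : E < 1048576)
    (hk : ∀ z, app σ l z = ev op T z) (hw : vwalk F V K i n items p pw 0 = vstop p 0 E) :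
    ev op E (q p) = ev op T (q p) := by
  obtain ⟨c, r, a, l', hl', ha, hs, hlt, happ⟩ :=
    vwalk_sound H hV hq hl (by norm_num) (show _ = Nat.succ ((0 * 1048576 + p) * 1048576 + E) from hw)
  have hc := hlt hp
  obtain rfl : r = 0 := by omega
  obtain rfl : c = p := by omega
  obtain rfl : a = E := by omega
  obtain rfl := packs_zero hl'
  rw [ev_zero H, app_nil, hk] at happ
  exact happ.symm

end sound

end Cfsg.Agent.Fi24Mult
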